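import Mathlib
import Cfsg.Agent.E7P.En1.Rat_m3
import Cfsg.Agent.E7P.En2.Tab_m3
import Cfsg.Agent.ChevFast.E7
import Cfsg.Agent.ChevFast.E8
import Cfsg.Agent.Lib.Refl
import Cfsg.Agent.R2.T1.Inf.Cnt_m3
import Cfsg.Agent.R2.T1.Inf.Dia
import Cfsg.Agent.FastGrp
import Cfsg.Agent.Prune
set_option linter.all false

section
prune_inst 0x7fbfbdf83fb9e7ffffff7e7ffed3dffc19919fffa6dff9437fe8e1ff8b9f030809c56b8589e010fe0e75623c10b87813fb7eeeffe86bd47ffffd5f741ffbee0fe5f6350871d48c300f342fb683f074886a3ffff6fbffffffffffffffffffffbeffbfffffffff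

-- part: E7P/E81/Alc
section
prune_inst 0x4005c00400000000000000002002000000004000000880000000200030800600900210000001000080800000000000000000000400000000a000000000400000000000081080000000090000000000000000000000000000000000000000004000000000
set_option linter.all false
open scoped Cfsg.Agent.FastGrp

-- part: E7P/Bl/Lat
section
/-!
# S5932, BLUE: sublattices of the root lattice of `E₇` (helper23)

* `had` : Hadamard's inequality; `had7` : for the quadratic form `qf` of `E₇`;
* `pick` : seven independent vectors; `lat` : the exponent of the quotient.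
-/

set_option autoImplicit false

namespace Cfsg.Agent.E7P.Bl

open Matrix Module Finset

/-- Hadamard's inequality -/
theorem had {n : ℕ} (Z : Matrix (Fin n) (Fin n) ℝ) : Z.det ^ 2 ≤ ∏ i, ∑ j, Z i j ^ 2 := by
  have : Fact (finrank ℝ (EuclideanSpace ℝ (Fin n)) = n) := ⟨by simp only [_root_.finrank_euclideanSpace, _root_.Fintype.card_fin]⟩
  let b := EuclideanSpace.basisFun (Fin n) ℝ
  let v : Fin n → EuclideanSpace ℝ (Fin n) := fun i => WithLp.toLp 2 (Z i)
  have h1 := b.toBasis.orientation.abs_volumeForm_apply_le v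
  rw [Orientation.volumeForm_robust' _ b, Basis.det_apply] at h1
  have h2 : b.toBasis.toMatrix v = Zᵀ := by
    ext i j
    simp [b, v, Basis.toMatrix_apply]
  rw [h2, det_transpose] at h1
  calc Z.det ^ 2 = |Z.det| ^ 2 := (sq_abs _).symm
    _ ≤ (∏ i, ‖v i‖) ^ 2 := pow_le_pow_left₀ (abs_nonneg _) h1 2
    _ = ∏ i, ∑ j, Z i j ^ 2 := by
      rw [← prod_pow]
      exact prod_congr rfl fun i _ => by rw [EuclideanSpace.real_norm_sq_eq]

theorem had_wt {n : ℕ} (Y : Matrix (Fin n) (Fin n) ℝ) (D : Fin n → ℝ) (hD : ∀ j, 0 ≤ D j) :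
    (∏ j, D j) * Y.det ^ 2 ≤ ∏ i, ∑ j, D j * Y i j ^ 2 := by
  have h := had (Y * diagonal fun j => √(D j))
  rw [det_mul, det_diagonal, mul_pow, ← prod_pow] at h
  simp only [mul_diagonal, mul_pow, Real.sq_sqrt (hD _)] at h
  simpa only [mul_comm] using h

/-- the norm in the coordinates of the simple roots -/
def qf (a : Fin 7 → ℤ) : ℤ :=
  2 * (a 0 * a 0 + a 1 * a 1 + a 2 * a 2 + a 3 * a 3 + a 4 * a 4 + a 5 * a 5 + a 6 * a 6 -
    a 0 * a 2 - a 1 * a 3 - a 2 * a 3 - a 3 * a 4 - a 4 * a 5 - a 5 * a 6)

/-- completing the squares -/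
noncomputable def Lo : Matrix (Fin 7) (Fin 7) ℝ :=
  !![1, 0, 0, 0, 0, 0, 0; 0, 1, 0, 0, 0, 0, 0; -1 / 2, 0, 1, 0, 0, 0, 0; 0, -1 / 2, -2 / 3, 1, 0, 0, 0;
    0, 0, 0, -6 / 5, 1, 0, 0; 0, 0, 0, 0, -5 / 4, 1, 0; 0, 0, 0, 0, 0, -4 / 3, 1]

/-- the weights of the squares -/
noncomputable def Dg : Fin 7 → ℝ := ![2, 2, 3 / 2, 5 / 6, 4 / 5, 3 / 4, 2 / 3]

theorem det_Lo : Lo.det = 1 := by
  rw [det_of_lowerTriangular]
  · simp only [Lo, Fin.prod_univ_seven, _root_.Matrix.of_apply, _root_.Matrix.cons_val', _root_.Matrix.cons_val_fin_one, _root_.Fin.isValue, _root_.Matrix.cons_val_zero, _root_.Matrix.cons_val_one, _root_.mul_one, _root_.Matrix.cons_val]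
  · intro i j h
    fin_cases i <;> fin_cases j <;> first | rfl | exact absurd h (by decide)

theorem qf_eq (a : Fin 7 → ℤ) : (qf a : ℝ) = ∑ j, Dg j * (∑ i, (a i : ℝ) * Lo i j) ^ 2 := by
  simp only [Fin.sum_univ_seven, qf]
  simp only [Lo, Dg, _root_.Fin.isValue, _root_.Int.cast_mul, _root_.Int.cast_ofNat, _root_.Int.cast_sub, _root_.Int.cast_add, _root_.Matrix.cons_val_zero, _root_.Matrix.of_apply, _root_.Matrix.cons_val', _root_.Matrix.cons_val_fin_one, _root_.mul_one, _root_.Matrix.cons_val_one, _root_.MulZeroClass.mul_zero, _root_.add_zero, _root_.Matrix.cons_val, _root_.zero_add]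
  ring

theorem qf_nonneg (a : Fin 7 → ℤ) : 0 ≤ qf a := by
  have h : (0 : ℝ) ≤ qf a := by
    rw [qf_eq]
    refine sum_nonneg fun j _ => mul_nonneg ?_ (sq_nonneg _)
    fin_cases j <;> norm_num only [Dg, _root_.Fin.zero_eta, _root_.Matrix.cons_val_zero, _root_.Nat.ofNat_nonneg, _root_.Fin.mk_one, _root_.Matrix.cons_val_one, _root_.Matrix.cons_val_succ', _root_.Matrix.cons_val_fin_one]
  exact_mod_cast h

theorem had7 (A : Matrix (Fin 7) (Fin 7) ℤ) : 2 * A.det ^ 2 ≤ ∏ i, qf (A i) := by
  have h := had_wt (A.map ((↑) : ℤ → ℝ) * Lo) Dg fun j => by fin_cases j <;> norm_num only [Dg, _root_.Fin.zero_eta, _root_.Matrix.cons_val_zero, _root_.Nat.ofNat_nonneg, _root_.Fin.mk_one, _root_.Matrix.cons_val_one, _root_.Matrix.cons_val_succ', _root_.Matrix.cons_val_fin_one]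
  have h1 : ∏ j, Dg j = 2 := by simp only [Dg, Fin.prod_univ_seven, _root_.Fin.isValue, _root_.Matrix.cons_val_zero, _root_.Matrix.cons_val_one, _root_.Matrix.cons_val]; norm_num
  rw [det_mul, det_Lo, mul_one, h1, ← Int.cast_det] at h
  have h2 : ∀ i, ∑ j, Dg j * (A.map ((↑) : ℤ → ℝ) * Lo) i j ^ 2 = (qf (A i) : ℝ) := fun i => by
    rw [qf_eq]; rfl
  simp only [h2] at h
  exact_mod_cast h

/-- seven independent vectors, one of them prescribed -/
theorem pick {ι : Type*} [Finite ι] (c : ι → Fin 7 → ℤ) (T : Set ι) {i0 : ι} (hi : i0 ∈ T) (h0 : c i0 ≠ 0)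
    (h : ∀ m : Fin 7 → ℤ, (∀ i ∈ T, ∑ j, c i j * m j = 0) → m = 0) :
    ∃ f : Fin 7 → ι, Function.Injective f ∧ (∀ j, f j ∈ T) ∧ (∃ j, f j = i0) ∧ (of fun j => c (f j)).det ≠ 0 := by
  classical
  let v : ι → Fin 7 → ℚ := fun i j => c i j
  have hv0 : v i0 ≠ 0 := fun h1 => h0 (funext fun j => by simpa [v] using congrFun h1 j)
  obtain ⟨B, hBT, hB0, hsp, hli⟩ := exists_linearIndepOn_extension (K := ℚ) (v := v) (s := {i0}) (t := T)
    (LinearIndepOn.singleton hv0) (Set.singleton_subset_iff.2 hi)
  have htop : ⊤ ≤ Submodule.span ℚ (Set.range fun x : B => v x) := by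
    rw [← Set.image_eq_range]
    by_contra hne
    obtain ⟨g, hg0, hg⟩ := Submodule.exists_le_ker_of_lt_top _ (lt_top_iff_ne_top.2 fun h1 => hne h1.ge)
    obtain ⟨d, hd⟩ := IsLocalization.exist_integer_multiples_of_finite (nonZeroDivisors ℤ)
      fun j : Fin 7 => g (Pi.single j 1)
    choose m hm using hd
    have hd0 : ((d : ℤ) : ℚ) ≠ 0 := Int.cast_ne_zero.2 (nonZeroDivisors.coe_ne_zero d)
    have hm' : ∀ j, (m j : ℚ) = ((d : ℤ) : ℚ) * g (Pi.single j 1) := fun j => by
      have h2 := hm j
      rwa [eq_intCast, zsmul_eq_mul] at h2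
    have hm0 : m = 0 := h m fun i hi => by
      have h2 : g (v i) = 0 := hg (hsp ⟨i, hi, rfl⟩)
      rw [pi_eq_sum_univ' (v i), map_sum] at h2
      have h3 : ((∑ j, c i j * m j : ℤ) : ℚ) = 0 := by
        push_cast
        rw [← mul_zero ((d : ℤ) : ℚ), ← h2, mul_sum]
        exact sum_congr rfl fun j _ => by rw [hm', map_smul, smul_eq_mul]; ring
      exact_mod_cast h3
    refine hg0 (LinearMap.pi_ext' fun j => LinearMap.ext_ring ?_)
    have h2 := hm' j
    rw [hm0, Pi.zero_apply, Int.cast_zero] at h2
    simpa only [_root_.LinearMap.coe_comp, _root_.LinearMap.coe_single, _root_.Function.comp_apply, _root_.LinearMap.zero_comp, _root_.LinearMap.zero_apply] using (mul_eq_zero.1 h2.symm).resolve_left hd0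
  have := Fintype.ofFinite B
  have hc : Fintype.card B = 7 := by
    rw [← finrank_eq_card_basis (Basis.mk hli htop), finrank_fin_fun]
  let e := (Fintype.equivFinOfCardEq hc).symm
  refine ⟨fun j => e j, Subtype.val_injective.comp e.injective, fun j => hBT (e j).2,
    ⟨e.symm ⟨i0, hB0 rfl⟩, by simp⟩, fun hd => ?_⟩
  have h1 : IsUnit (of fun j => v (e j)) :=
    linearIndependent_rows_iff_isUnit.1 (LinearIndependent.comp hli e e.injective)
  rw [isUnit_iff_isUnit_det, isUnit_iff_ne_zero] at h1
  apply h1
  have h2 := Int.cast_det (R := ℚ) (of fun j => c (e j))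
  rw [hd, Int.cast_zero] at h2
  exact h2.symm

theorem zpow_sum' {G : Type*} [CommGroup G] {ι : Type*} (x : G) (s : Finset ι) (f : ι → ℤ) :
    x ^ ∑ i ∈ s, f i = ∏ i ∈ s, x ^ f i := by
  classical
  induction s using Finset.induction_on with
  | empty => rw [sum_empty, prod_empty, zpow_zero]
  | insert i s hi ih => rw [sum_insert hi, prod_insert hi, _root_.zpow_add, ih]

/-- the exponent of a character of the root lattice which kills short vectors of full rank -/
theorem lat {ι : Type*} [Finite ι] (c : ι → Fin 7 → ℤ) (T : Set ι) {i0 : ι} (hi : i0 ∈ T) (h0 : c i0 ≠ 0)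
    (h : ∀ m : Fin 7 → ℤ, (∀ i ∈ T, ∑ j, c i j * m j = 0) → m = 0) {n0 : ℤ} (hq0 : qf (c i0) ≤ n0)
    (hq : ∀ i ∈ T, i ≠ i0 → qf (c i) ≤ 4) {G : Type*} [CommGroup G] (b : Fin 7 → G)
    (hb : ∀ i ∈ T, ∏ j, b j ^ c i j = 1) : ∃ d : ℕ, 0 < d ∧ 2 * (d : ℤ) ^ 2 ≤ n0 * 4 ^ 6 ∧ ∀ j, b j ^ d = 1 := by
  obtain ⟨f, hf, hT, ⟨j0, hj0⟩, hd⟩ := pick c T hi h0 h
  set A : Matrix (Fin 7) (Fin 7) ℤ := of fun j => c (f j) with hA
  refine ⟨A.det.natAbs, Int.natAbs_pos.2 hd, ?_, fun j => ?_⟩
  · rw [Int.natCast_natAbs, sq_abs]
    refine (had7 A).trans ?_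
    rw [← mul_prod_erase _ _ (mem_univ j0)]
    refine mul_le_mul (show qf (c (f j0)) ≤ n0 from hj0 ▸ hq0) ?_ (prod_nonneg fun i _ => qf_nonneg _) ((qf_nonneg _).trans hq0)
    refine (prod_le_prod (g := fun _ => 4) (fun i _ => qf_nonneg _) fun i hi => ?_).trans (by simp)
    exact hq _ (hT i) fun h1 => ne_of_mem_erase hi (hf (h1.trans hj0.symm))
  · have h1 : b j ^ A.det = 1 := by
      have h2 : ∀ m, ∑ i, adjugate A j i * A i m = if j = m then A.det else 0 := fun m => by
        have h3 := congrFun (congrFun (adjugate_mul A) j) m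
        rw [mul_apply, Matrix.smul_apply, one_apply, smul_eq_mul, mul_ite, mul_one, mul_zero] at h3
        exact h3
      calc b j ^ A.det = ∏ m, b m ^ ∑ i, adjugate A j i * A i m := by
            simp only [h2]
            rw [prod_eq_single j (fun m _ hm => by rw [if_neg hm.symm, zpow_zero]) (fun h => absurd (mem_univ _) h),
              if_pos rfl]
        _ = ∏ i, (∏ m, b m ^ c (f i) m) ^ adjugate A j i := by
            simp only [zpow_sum', ← prod_zpow]
            rw [prod_comm]
            exact prod_congr rfl fun i _ => prod_congr rfl fun m _ => by rw [← _root_.zpow_mul, mul_comm]; rfl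
        _ = 1 := prod_eq_one fun i _ => by rw [hb _ (hT i), _root_.one_zpow]
    rcases Int.natAbs_eq A.det with h2 | h2
    · rw [← zpow_natCast, ← h2, h1]
    · rw [h2, _root_.zpow_neg, zpow_natCast, inv_eq_one] at h1
      exact h1

end Cfsg.Agent.E7P.Bl
end

-- part: E7P/Bl/Main
section
/-!
# S5932, BLUE: the torus of `SL₂(K)` is a blueprint if `K` is large (helper23)

* `Bl.dich` : for an element `t` of the torus, either a non-zero cocharacter is constant on the eigenspaces of `t` on the
  56-dimensional module, or `t ^ d` is central for some `d ≤ 128`, `d ≠ 121`;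
* `Sit.blue` : the goal.
-/

set_option autoImplicit false
set_option maxRecDepth 100000

namespace Cfsg.Agent.E7P

open Cfsg Cfsg.Lie Matrix Module
open Cfsg.Agent.ChevalleyStructure.RootVec
open Cfsg.Agent.H943.E7V.Block (D1 rho)
open Cfsg.Agent.R2.T1 Cfsg.Agent.E7P.Kf
open Cfsg.Agent.R2.H9.E6 (pq)
open Cfsg.Agent.H943.SL2Rel (u w h)

universe u v

namespace Bl

/-- the coordinates of a weight in the simple roots (up to a common translation) -/
def ra (s : D1) : Fin 7 → ℤ := fun j => rt chevE8 (nn s) j

/-- the norm of the difference of two weights -/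
def nq (s t : ℕ) : ℤ := qf fun j => rt chevE8 s j - rt chevE8 t j

theorem chk_ra : ∀ s < 240, rt chevE8 s 7 = 1 → ∀ i < 7, chevE8.cartan i s =
    ((List.range 7).map fun j => rt chevE8 s j * chevE7.cartan i (chevE7.simple j)).sum - if i = 6 then 1 else 0 := by
  (rewrite [Cfsg.Agent.ChevFast.E7.cartan, Cfsg.Agent.ChevFast.E8.cartan]; decide +kernel)

theorem chk_co : ∀ s < 240, rt chevE8 s 7 = 1 → ∀ j < 7,
    ((List.range 7).map fun i => chevE8.cartan i s * Kf.iC i j).sum = 2 * rt chevE8 s j - Kf.iC 6 j := by
  (rewrite [Cfsg.Agent.ChevFast.E8.cartan]; decide +kernel)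

theorem chk_n6 : ∀ s < 240, rt chevE8 s 7 = 1 → nq s (st s).1 ≤ 6 := by
  decide +kernel

/-- the bounds for the norms -/
def nb (s t : ℕ) : Bool := decide (nq s t ≤ 4) && (decide (t = s) || decide (nq s t ≤ 2) || decide (nq s (st t).1 ≤ 2))

theorem chk_nb : ∀ s < 240, rt chevE8 s 7 = 1 → ∀ t < 240, rt chevE8 t 7 = 1 → t ≠ (st s).1 → nb s t = true := by
  decide +kernel

theorem chk_nq (s t : D1) (h0 : nn t ≠ (st (nn s)).1) :
    nq (nn s) (nn t) ≤ 4 ∧ ((nn t = nn s ∨ nq (nn s) (nn t) ≤ 2) ∨ nq (nn s) (st (nn t)).1 ≤ 2) := by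
  have h1 := chk_nb _ (nn_lt s) (rt_nn s) _ (nn_lt t) (rt_nn t) h0
  simpa only [nb, Bool.and_eq_true, Bool.or_eq_true, decide_eq_true_eq] using h1

theorem nn_op (s : D1) : (st (nn s)).1 = nn (op s) := by rw [st_eq]

theorem qf_op (s : D1) : qf (ra s - ra (op s)) ≤ 6 := by
  have h1 := chk_n6 _ (nn_lt s) (rt_nn s)
  rwa [nn_op] at h1

theorem qf_ne {s t : D1} (h0 : t ≠ op s) : qf (ra s - ra t) ≤ 4 :=
  (chk_nq s t fun h1 => h0 (nn_inj (h1.trans (nn_op s)))).1

theorem qf_two {s t : D1} (h0 : t ≠ op s) (h1 : t ≠ s) : qf (ra s - ra t) ≤ 2 ∨ qf (ra s - ra (op t)) ≤ 2 := by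
  have h2 := (chk_nq s t fun h1 => h0 (nn_inj (h1.trans (nn_op s)))).2
  rw [nn_op] at h2
  exact h2.imp_left fun h3 => h3.resolve_left fun h4 => h1 (nn_inj h4)

theorem wc_eq (s : D1) : wc s = ∑ j : Fin 7, ra s j • rc (chevE7.simple j) + fun i : Fin 7 => -if i.1 = 6 then 1 else 0 := by
  funext i
  have h1 := chk_ra _ (nn_lt s) (rt_nn s) i i.2
  rw [sum7] at h1
  rw [Pi.add_apply, Finset.sum_apply, ← sub_eq_add_neg]
  exact h1

theorem ra_ne {s t : D1} (h0 : s ≠ t) : ra s - ra t ≠ 0 := fun h1 =>
  h0 (wc_inj (by rw [wc_eq, wc_eq, sub_eq_zero.1 h1]))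

/-- the cocharacter of a linear form on the root lattice -/
def co (m : Fin 7 → ℤ) : Fin 7 → ℤ := fun i => ∑ j : Fin 7, Kf.iC i j * m j

theorem co_ne {m : Fin 7 → ℤ} (hm : m ≠ 0) : co m ≠ 0 := by
  intro h0
  apply hm
  have e := fun i => congrFun h0 i
  have e0 := e 0
  have e1 := e 1
  have e2 := e 2
  have e3 := e 3
  have e4 := e 4
  have e5 := e 5
  have e6 := e 6
  simp only [co, Fin.sum_univ_seven, Kf.iC] at e0 e1 e2 e3 e4 e5 e6
  norm_num only [_root_.Fin.coe_ofNat_eq_mod, _root_.List.getD_eq_getElem?_getD, _root_.List.length_cons, _root_.List.length_nil, _root_.zero_add, _root_.Nat.ofNat_pos, _root_.getElem?_pos, _root_.List.getElem_cons_zero, _root_.Option.getD_some, _root_.Nat.one_lt_ofNat, _root_.List.getElem_cons_succ, _root_.Nat.lt_add_one, _root_.Pi.zero_apply] at e0 e1 e2 e3 e4 e5 e6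
  funext i
  fin_cases i <;> simp <;> (clear * - e0 e2 e1 e3 e4 e5 e6; omega)

theorem wc_co (s : D1) (m : Fin 7 → ℤ) :
    ∑ i, wc s i * co m i = 2 * ∑ j, ra s j * m j - ∑ j : Fin 7, Kf.iC 6 j * m j := by
  simp only [co, Finset.mul_sum]
  rw [Finset.sum_comm, ← Finset.sum_sub_distrib]
  refine Finset.sum_congr rfl fun j _ => ?_
  have h1 := chk_co _ (nn_lt s) (rt_nn s) j j.2
  rw [sum7] at h1
  have h2 : ∑ i, wc s i * (Kf.iC i j * m j) = (∑ i : Fin 7, chevE8.cartan i (nn s) * Kf.iC i j) * m j := by
    rw [Finset.sum_mul]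
    exact Finset.sum_congr rfl fun i _ => (mul_assoc _ _ _).symm
  rw [h2, h1, ra]
  ring

variable {k : Type u} [Field k]

theorem ch_pow (c : Fin 7 → ℤ) (t : Fin chevE7.rank → kˣ) (n : ℕ) : ch c (t ^ n) = ch c t ^ n := by
  unfold ch
  rw [← Finset.prod_pow]
  exact Finset.prod_congr rfl fun i _ => by rw [Pi.pow_apply, ← zpow_natCast, ← zpow_natCast, zpow_comm]

theorem kill_ra {t : Fin chevE7.rank → kˣ} {μ ν : D1} (h0 : ch (wc μ) t = ch (wc ν) t) :
    ∏ j : Fin 7, ch (rc (chevE7.simple j)) t ^ (ra μ - ra ν) j = 1 := by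
  rw [wc_eq, wc_eq, ch_add, ch_add, mul_left_inj, ch_sum, ch_sum] at h0
  simp only [ch_zsmul] at h0
  simp only [Pi.sub_apply, _root_.zpow_sub, Finset.prod_mul_distrib, Finset.prod_inv_distrib]
  rw [h0, mul_inv_cancel]

theorem root_pow {t : Fin chevE7.rank → kˣ} {d : ℕ} (h0 : ∀ j : Fin 7, ch (rc (chevE7.simple j)) t ^ d = 1) {r : ℕ}
    (hr : r < 126) : ch (rc r) t ^ d = 1 := by
  have h1 : rc r = ∑ j : Fin 7, rt chevE7 r j • rc (chevE7.simple j) := by
    funext i
    rw [rc_eq hr, Finset.sum_apply, Finset.sum_range]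
    rfl
  rw [h1, ch_sum, ← Finset.prod_pow]
  refine Finset.prod_eq_one fun j _ => ?_
  rw [ch_zsmul, ← zpow_natCast, zpow_comm, zpow_natCast, h0, _root_.one_zpow]

theorem sq_of_op {t : Fin chevE7.rank → kˣ} {μ : D1} (h0 : ch (wc μ) t = ch (wc (op μ)) t) : ch (wc μ) (t ^ 2) = 1 := by
  rw [wc_op, ch_neg] at h0
  rw [ch_pow, sq]
  exact mul_eq_one_iff_eq_inv.2 h0

/-- **the dichotomy** -/
theorem dich (t : Fin chevE7.rank → kˣ) :
    (∃ l : Fin 7 → ℤ, l ≠ 0 ∧ ∀ μ ν : D1, ch (wc μ) t = ch (wc ν) t → ∑ i, wc μ i * l i = ∑ i, wc ν i * l i) ∨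
    ∃ d : ℕ, 0 < d ∧ d ≤ 128 ∧ d ≠ 121 ∧ ∀ r < 126, ch (rc r) t ^ d = 1 := by
  by_cases hm : ∃ m : Fin 7 → ℤ, m ≠ 0 ∧ ∀ μ ν : D1, ch (wc μ) t = ch (wc ν) t → ∑ j, ra μ j * m j = ∑ j, ra ν j * m j
  · obtain ⟨m, hm0, hm⟩ := hm
    exact Or.inl ⟨co m, co_ne hm0, fun μ ν h0 => by rw [wc_co, wc_co, hm μ ν h0]⟩
  right
  have hno : ∀ m : Fin 7 → ℤ, (∀ μ ν : D1, ch (wc μ) t = ch (wc ν) t → ∑ j, ra μ j * m j = ∑ j, ra ν j * m j) → m = 0 :=
    fun m h0 => by_contra fun h1 => hm ⟨m, h1, h0⟩
  have hsub : ∀ (μ ν : D1) (m : Fin 7 → ℤ), ∑ j, (ra μ - ra ν) j * m j = 0 ↔ ∑ j, ra μ j * m j = ∑ j, ra ν j * m j := by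
    intro μ ν m
    simp only [Pi.sub_apply, sub_mul, Finset.sum_sub_distrib, sub_eq_zero]
  have hop : ∀ {μ ν : D1}, op μ = op ν → μ = ν := fun {μ _} h0 => by rw [← op_op μ, h0, op_op]
  by_cases hB : ∃ μ ν : D1, ch (wc μ) t = ch (wc (op μ)) t ∧ ch (wc ν) t = ch (wc (op ν)) t ∧ ν ≠ μ ∧ ν ≠ op μ
  · obtain ⟨μ1, μ2, h1, h2, h3, h4⟩ := hB
    obtain ⟨μ3, h5, h6, h7, h8⟩ : ∃ μ3, ch (wc μ3) (t ^ 2) = 1 ∧ μ1 ≠ μ3 ∧ μ3 ≠ op μ1 ∧ qf (ra μ1 - ra μ3) ≤ 2 := by
      rcases qf_two h4 h3 with h5 | h5
      · exact ⟨μ2, sq_of_op h2, h3.symm, h4, h5⟩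
      · exact ⟨op μ2, sq_of_op (by rw [op_op, h2]), fun h6 => h4 (by rw [h6, op_op]), fun h6 => h3 (hop h6), h5⟩
    obtain ⟨d, d0, d1, d2⟩ := lat (fun x : D1 × D1 => ra x.1 - ra x.2)
      {x | ch (wc x.1) (t ^ 2) = ch (wc x.2) (t ^ 2) ∧ x.2 ≠ op x.1} (i0 := (μ1, μ3))
      ⟨(sq_of_op h1).trans h5.symm, h7⟩ (ra_ne h6)
      (fun m h0 => hno m fun μ ν hμ => by
        by_cases h9 : ν = op μ
        · subst h9
          obtain ⟨κ, k1, k2, k3⟩ : ∃ κ, ch (wc κ) (t ^ 2) = 1 ∧ κ ≠ μ ∧ κ ≠ op μ := by
            by_cases e1 : μ1 = μ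
            · exact ⟨μ2, sq_of_op h2, e1 ▸ h3, e1 ▸ h4⟩
            by_cases e2 : μ1 = op μ
            · exact ⟨μ2, sq_of_op h2, fun e => h4 (by rw [e2, op_op, e]), e2 ▸ h3⟩
            · exact ⟨μ1, sq_of_op h1, e1, e2⟩
          exact ((hsub _ _ m).1 (h0 (μ, κ) ⟨(sq_of_op hμ).trans k1.symm, k3⟩)).trans
            ((hsub _ _ m).1 (h0 (κ, op μ) ⟨k1.trans (sq_of_op (by rw [op_op, hμ])).symm, fun e => k2 (hop e).symm⟩))
        · exact (hsub _ _ m).1 (h0 (μ, ν) ⟨by rw [ch_pow, ch_pow, hμ], h9⟩))
      h8 (fun x hx _ => qf_ne hx.2) (fun j => ch (rc (chevE7.simple j)) (t ^ 2)) fun x hx => (kill_ra hx.1 :)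
    refine ⟨2 * d, by omega, by nlinarith, by omega, fun r hr => ?_⟩
    rw [pow_mul, ← ch_pow]
    exact root_pow d2 hr
  · obtain ⟨μ0, ν0, h1, h2, h3, h4⟩ : ∃ μ0 ν0 : D1, ch (wc μ0) t = ch (wc ν0) t ∧ μ0 ≠ ν0 ∧ qf (ra μ0 - ra ν0) ≤ 6 ∧
        ∀ μ, ch (wc μ) t = ch (wc (op μ)) t → (μ = μ0 ∧ op μ = ν0) ∨ (μ = ν0 ∧ op μ = μ0) := by
      by_cases hA : ∃ μ, ch (wc μ) t = ch (wc (op μ)) t
      · obtain ⟨μ0, h1⟩ := hA
        refine ⟨μ0, op μ0, h1, ne_op μ0, qf_op μ0, fun μ hμ => ?_⟩
        by_cases e1 : μ = μ0
        · exact Or.inl ⟨e1, by rw [e1]⟩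
        by_cases e2 : μ = op μ0
        · exact Or.inr ⟨e2, by rw [e2, op_op]⟩
        · exact absurd ⟨μ0, μ, h1, hμ, e1, e2⟩ hB
      · by_contra hc
        refine one_ne_zero (congrFun (hno 1 fun μ ν hμ => ?_) 0)
        by_contra e
        have e1 : μ ≠ ν := fun e1 => e (by rw [e1])
        have e2 : ν ≠ op μ := fun e2 => hA ⟨μ, e2 ▸ hμ⟩
        exact hc ⟨μ, ν, hμ, e1, (qf_ne e2).trans (by norm_num), fun κ hκ => absurd ⟨κ, hκ⟩ hA⟩
    obtain ⟨d, d0, d1, d2⟩ := lat (fun x : D1 × D1 => ra x.1 - ra x.2)
      {x | ch (wc x.1) t = ch (wc x.2) t ∧ (x.2 ≠ op x.1 ∨ x = (μ0, ν0))} (i0 := (μ0, ν0)) ⟨h1, Or.inr rfl⟩ (ra_ne h2)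
      (fun m h0 => hno m fun μ ν hμ => by
        by_cases h9 : ν = op μ
        · subst h9
          have e := (hsub _ _ m).1 (h0 (μ0, ν0) ⟨h1, Or.inr rfl⟩)
          rcases h4 μ hμ with ⟨e1, e2⟩ | ⟨e1, e2⟩
          · rw [e2, e1]; exact e
          · rw [e2, e1]; exact e.symm
        · exact (hsub _ _ m).1 (h0 (μ, ν) ⟨hμ, Or.inl h9⟩))
      h3 (fun x hx h0 => qf_ne (hx.2.resolve_right h0)) (fun j => ch (rc (chevE7.simple j)) t) fun x hx => kill_ra hx.1
    have d3 : d ≤ 110 := by nlinarith only [d1]
    exact ⟨d, d0, by omega, by omega, fun r hr => root_pow d2 hr⟩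

theorem ad_Phi_one {t : Fin chevE7.rank → kˣ} (h0 : ∀ r < 126, ch (rc r) t = 1) : ad k (Phi k t) = 1 := by
  refine Subtype.ext (Units.ext ?_)
  show adM k (Phi k t) = 1
  rw [wrep_L.tor, ← diagonal_one]
  congr 1
  funext i
  rcases i with i | r
  · rw [ac_inl, ch_zero]; rfl
  · rw [ac_inr, h0 r r.2]; rfl

end Bl

namespace Sit

variable {p a b : ℕ} {F : Type u} {K : Type v} {k : Type u} [Field F] [Fintype F] [Field K] [Fintype K] [Field k]
  (S : Sit p a b F K k)

/-- the torus of a frame lies in both parabolic subgroups -/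
theorem bl_mem (fr : S.Frame) (t : Fin chevE7.rank → kˣ) : fr.g * Phi k t * fr.g⁻¹ ∈ S.P ⊓ S.P' := by
  refine ⟨S.mem_P.2 ?_, S.mem_P'.2 (S.mem_P.2 ?_)⟩
  · have h1 := mul_mem (mul_mem fr.hg (Phi_mem_Pl S.β t)) (inv_mem fr.hg)
    convert h1 using 1
    group
  · obtain ⟨t', ht⟩ := nL_conj_Phi' fr.l t
    have h1 := mul_mem (mul_mem fr.hg (mul_mem (mul_mem (inv_mem fr.hw) (Phi_mem_Pl S.β t')) fr.hw)) (inv_mem fr.hg)
    rw [← ht] at h1
    convert h1 using 1
    group

theorem bl_sq {c : Kˣ} (h0 : ad k (S.ψ (h c)) = 1) : c ^ 2 = 1 := by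
  have h1 : ad F (S.ψ0 (h c)) = 1 := (ad_emb_eq_one_iff S.f _).1 h0
  rw [S.lift] at h1
  have h3 : pq (h c) = 1 := S.max.inj (by rw [h1, map_one])
  have h4 : h c ∈ Subgroup.center (_root_.Matrix.SpecialLinearGroup (Fin 2) K) := (QuotientGroup.eq_one_iff _).1 h3
  have h5 : ((w : _root_.Matrix.SpecialLinearGroup (Fin 2) K).1 * (h c).1) 0 1 = ((h c).1 * (w : _root_.Matrix.SpecialLinearGroup (Fin 2) K).1) 0 1 :=
    congrArg (fun m : _root_.Matrix.SpecialLinearGroup (Fin 2) K => m.1 0 1) (Subgroup.mem_center_iff.1 h4 w)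
  simp only [h, w, Matrix.mul_apply, Fin.sum_univ_two, _root_.Fin.isValue, _root_.Matrix.of_apply, _root_.Matrix.cons_val', _root_.Matrix.cons_val_fin_one, _root_.Matrix.cons_val_zero, _root_.Matrix.cons_val_one, _root_.MulZeroClass.mul_zero, _root_.one_mul, _root_.zero_add, _root_.mul_one, _root_.add_zero] at h5
  refine Units.ext ?_
  rw [Units.val_pow_eq_pow_val, sq, Units.val_one]
  nth_rw 1 [← h5]
  exact inv_mul_cancel₀ c.ne_zero

/-- **BLUE** -/
theorem blue (hr : p ^ a = 243 ∨ 257 < p ^ a) (fr : S.Frame) : Nonempty (S.TorW (rho k)) := by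
  obtain ⟨c, hc⟩ := IsCyclic.exists_ofOrder_eq_natCard (α := Kˣ)
  rw [Nat.card_units, Nat.card_eq_fintype_card, S.cardK] at hc
  obtain ⟨t, ht⟩ := fr.ht c
  rcases Bl.dich t with ⟨l, l0, hl⟩ | ⟨d, d0, d1, d2, hd⟩
  · refine ⟨⟨⊤, ⟨fun _ _ _ _ => trivial, fun _ _ => trivial⟩, ⟨1, by simp only [_root_.Nat.cast_one, _root_.ne_eq, _root_.one_ne_zero, _root_.not_false_eq_true], fun y hy => ?_⟩, fr.g, l, l0,
      fun z => S.bl_mem fr _, fun θ => ?_⟩⟩
    · rw [pow_one]
      refine rho_injective ?_
      rw [map_one]
      exact ext_of_mulVec_single fun i => by rw [hy _ trivial, one_mulVec]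
    · have key : ∃ n : ℤ, ∀ μ : D1, ((ch (wc μ) t : kˣ) : k) = θ c → ∑ i, wc μ i * l i = n := by
        by_cases e : ∃ μ : D1, ((ch (wc μ) t : kˣ) : k) = θ c
        · obtain ⟨μ0, e⟩ := e
          exact ⟨_, fun μ hμ => hl μ μ0 (Units.ext (hμ.trans e.symm))⟩
        · exact ⟨0, fun μ hμ => absurd ⟨μ, hμ⟩ e⟩
      obtain ⟨n, hn⟩ := key
      refine ⟨n, fun y _ hy z => ?_⟩
      have h1 := congrArg (fun x => rho k fr.g⁻¹ *ᵥ x) (hy c)
      simp only [ht, mulVec_mul, mulVec_inv, mulVec_smul] at h1
      have h2 : rho k (Phi k (lam l z)) *ᵥ (rho k fr.g⁻¹ *ᵥ y) = ((z ^ n : kˣ) : k) • (rho k fr.g⁻¹ *ᵥ y) := by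
        funext μ
        have h3 := congrFun h1 μ
        rw [wrep_V.tor, mulVec_diagonal, Pi.smul_apply, smul_eq_mul] at h3
        rw [wrep_V.tor, mulVec_diagonal, Pi.smul_apply, smul_eq_mul, ch_lam]
        by_cases e : (rho k fr.g⁻¹ *ᵥ y) μ = 0
        · rw [e, mul_zero, mul_zero]
        · rw [hn μ (mul_right_cancel₀ e h3)]
      rw [mulVec_mul, mulVec_mul, h2, mulVec_smul, mulVec_inv']
  · exfalso
    have h1 : ad k (S.ψ (h (c ^ d))) = 1 := by
      rw [H943.SL2Rel.h_pow, map_pow, ht, conj_pow, ← map_pow, map_mul, map_mul,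
        Bl.ad_Phi_one fun r hr => by rw [Bl.ch_pow, hd r hr], mul_one, ← map_mul, mul_inv_cancel, map_one]
    have h2 := S.bl_sq h1
    rw [← pow_mul, ← orderOf_dvd_iff_pow_eq_one, hc] at h2
    have h3 := Nat.le_of_dvd (by omega) h2
    rcases hr with hr | hr
    · rw [hr] at h2
      omega
    · omega

end Sit

end Cfsg.Agent.E7P
end

-- part: E7P/E81/Alc
section
/-!
# S5932, E81: Kac coordinates in the simply connected group (helper30)

* `E81.alcZ` : the alcove of the affine Weyl group (proof of `H944.Kac.exists_alcove`, for integral vectors);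
* `E81.alc` : an element `y` of the torus with `y ^ (2 M) = 1`, `y ^ M` central, is conjugate under the Weyl group to
  `lam (Bl.co s) ζ` with `∑ mk i * s i ≤ M`.
-/

set_option autoImplicit false
set_option maxRecDepth 100000
set_option maxHeartbeats 200000

namespace Cfsg.Agent.E7P.E81

section
open Cfsg.Agent.ChevalleyStructure.CoxeterGeom Cfsg.Agent.Tits.Roots
  Cfsg.Agent.Nodes.RGDChev
open Cfsg.Lie Cfsg.Agent.ChevalleyStructure Cfsg.Agent.ChevalleyStructure.Elts
  Cfsg.Agent.ChevalleyStructure.RootVec Cfsg.Agent.ChevalleyStructure.RootVecTab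
  Cfsg.Agent.ChevalleyStructure.NPerm Cfsg.Agent.ChevalleyStructure.CoxeterGeomTypes
open Cfsg.Agent.H944.RootVals Cfsg.Agent.H944.Kac

/-- **the alcove of the affine Weyl group** -/
theorem alcZ {D : ChevalleyDatum} {l : ℕ} {M : CoxeterMatrix (Fin l)} (hp : IsType D l M) {N : ℕ} (hN : 0 < N)
    (θ a : Fin l → ℤ) (κ : ℤ) (hκ : 0 < κ)
    (hθ : ∀ i, ∑ s : Fin D.nroots, (∑ k, vec D l s k * a k) * vec D l s i = κ * θ i)
    (hθ2 : ∑ i, θ i * a i = 2) (S : Finset (Fin D.nroots))
    (hS : ∀ j, 0 < ∑ i, cartanOf D l j i * ∑ s ∈ S, vec D l s i)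
    (Q : (Fin l → ℤ) → Prop) (hP : ∀ v j, Q v → Q (srefl D l j v)) (hT : ∀ v, Q v → Q fun i => v i - N * a i)
    (hQ0 : ∃ y, Q y) : ∃ y : Fin l → ℕ, Q (fun i => (y i : ℤ)) ∧ ∑ i, θ i * (y i : ℤ) ≤ N := by
  classical
  -- first minimum
  have h1 : ∃ m : ℕ, ∃ y, Q y ∧ _root_.Cfsg.Agent.H944.Kac.sq D l y = m := by
    obtain ⟨y, hy⟩ := hQ0
    exact ⟨(_root_.Cfsg.Agent.H944.Kac.sq D l y).toNat, y, hy, (Int.toNat_of_nonneg (sq_nonneg' y)).symm⟩
  let m := Nat.find h1
  have hm : ∃ y, Q y ∧ sq D l y = m := Nat.find_spec h1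
  have hmin : ∀ y, Q y → (m : ℤ) ≤ sq D l y := by
    intro y hy
    have h2 : m ≤ (sq D l y).toNat := Nat.find_min' h1 ⟨y, hy, (Int.toNat_of_nonneg (sq_nonneg' y)).symm⟩
    have h3 := Int.toNat_of_nonneg (sq_nonneg' (D := D) y)
    omega
  let L : (Fin l → ℤ) → ℤ := fun y => ∑ s ∈ S, rv D l y s
  have hL : ∀ y, L y ≤ _root_.Cfsg.Agent.H944.Kac.sq D l y := by
    intro y
    calc L y ≤ ∑ s ∈ S, rv D l y s ^ 2 := Finset.sum_le_sum fun s _ => Int.le_self_sq _
      _ ≤ ∑ s : Fin D.nroots, rv D l y s ^ 2 :=
        Finset.sum_le_sum_of_subset_of_nonneg (Finset.subset_univ S) fun s _ _ => sq_nonneg _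
  have h2 : ∃ n : ℕ, ∃ y, Q y ∧ sq D l y = m ∧ (m : ℤ) - L y = n := by
    obtain ⟨y, hy, hy2⟩ := hm
    have := hL y
    refine ⟨((m : ℤ) - L y).toNat, y, hy, hy2, (Int.toNat_of_nonneg ?_).symm⟩
    omega
  let n := Nat.find h2
  obtain ⟨y, hyQ, hym, hyn⟩ : ∃ y, Q y ∧ _root_.Cfsg.Agent.H944.Kac.sq D l y = m ∧ (m : ℤ) - L y = n := Nat.find_spec h2
  have hmin2 : ∀ y', Q y' → sq D l y' = m → L y' ≤ L y := by
    intro y' hy' hy2
    have h3 := hL y'
    have h4 : n ≤ ((m : ℤ) - L y').toNat :=
      Nat.find_min' h2 ⟨y', hy', hy2, (Int.toNat_of_nonneg (by omega)).symm⟩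
    (clear * - hyn hy2 h3 h4; omega)
  -- dominance
  have hdom : ∀ j, 0 ≤ y j := by
    intro j
    have hQ' : Q (srefl D l j y) := hP _ j hyQ
    have hsq' : _root_.Cfsg.Agent.H944.Kac.sq D l (srefl D l j y) = m := by rw [sq_eq, ms_srefl hp, ← sq_eq, hym]
    have h3 := hmin2 _ hQ' hsq'
    have h4 : L (srefl D l j y) = L y - (∑ i, cartanOf D l j i * ∑ s ∈ S, vec D l s i) * y j := by
      show ∑ s ∈ S, rv D l (srefl D l j y) s = ∑ s ∈ S, rv D l y s - _
      have h5 : ∀ s ∈ S, rv D l (srefl D l j y) s = rv D l y s - (∑ i, cartanOf D l j i * vec D l s i) * y j := by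
        intro s _
        unfold rv srefl
        simp only [Int.cast_id, mul_sub]
        rw [Finset.sum_sub_distrib, Finset.sum_mul]
        (with_reducible congr 1)
        refine Finset.sum_congr rfl fun i _ => ?_
        ring
      rw [Finset.sum_congr rfl h5, Finset.sum_sub_distrib, ← Finset.sum_mul]
      congr 2
      rw [Finset.sum_comm]
      refine Finset.sum_congr rfl fun i _ => ?_
      rw [Finset.mul_sum]
    rw [h4] at h3
    have h6 := hS j
    by_contra hneg
    push Not at hneg
    nlinarith only [h3, h6, hneg]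
  -- the highest root
  have hhigh : ∑ i, θ i * y i ≤ N := by
    let y' : Fin l → ℤ := fun i => y i - N * a i
    have hQ' : Q y' := hT _ hyQ
    have h3 := hmin _ hQ'
    have h4 : _root_.Cfsg.Agent.H944.Kac.sq D l y' = sq D l y - 2 * N * κ * (∑ i, θ i * y i) + N ^ 2 * κ * 2 := by
      have h5 : ∀ s : Fin D.nroots, rv D l y' s ^ 2 = rv D l y s ^ 2 - 2 * N * (rv D l a s * rv D l y s) +
          N ^ 2 * (rv D l a s * rv D l a s) := by
        intro s
        have h6 : rv D l y' s = rv D l y s - N * rv D l a s := by
          unfold rv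
          rw [Finset.mul_sum, ← Finset.sum_sub_distrib]
          refine Finset.sum_congr rfl fun i _ => ?_
          show _ * (y i - N * a i) = _
          ring
        rw [h6]
        ring
      have h7 : ∀ z : Fin l → ℤ, ∑ s : Fin D.nroots, rv D l a s * rv D l z s = κ * ∑ i, θ i * z i := by
        intro z
        have h8 : ∀ s : Fin D.nroots, rv D l a s * rv D l z s =
            ∑ i, ((∑ k, vec D l s k * a k) * vec D l s i) * z i := by
          intro s
          unfold rv
          simp only [Int.cast_id]
          rw [Finset.mul_sum]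
          refine Finset.sum_congr rfl fun i _ => ?_
          ring
        simp only [h8]
        rw [Finset.sum_comm, Finset.mul_sum]
        refine Finset.sum_congr rfl fun i _ => ?_
        rw [← Finset.sum_mul, hθ]
        ring
      unfold H944.Kac.sq
      simp only [h5]
      rw [Finset.sum_add_distrib, Finset.sum_sub_distrib, ← Finset.mul_sum, ← Finset.mul_sum, h7, h7, hθ2]
      ring
    rw [h4, hym] at h3
    have hN' : (0 : ℤ) < N := by exact_mod_cast hN
    have h9 : (0 : ℤ) < N * κ := mul_pos hN' hκ
    by_contra hneg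
    push Not at hneg
    nlinarith only [h3, h9, hneg]
  refine ⟨fun i => (y i).toNat, ?_, ?_⟩
  · convert hyQ using 2 with i
    exact Int.toNat_of_nonneg (hdom i)
  · convert hhigh using 2 with i
    congr 1
    exact Int.toNat_of_nonneg (hdom _)
end

open Cfsg Cfsg.Lie Matrix Module
open Cfsg.Agent.R2.T1 Cfsg.Agent.E7P.Kf

universe u

variable {K : Type u} [Field K]

theorem iC_symm : ∀ i j : Fin 7, Kf.iC i j = Kf.iC j i := by decide +kernel

theorem co_eq (s : Fin 7 → ℤ) : Bl.co s = nt_cw s := by
  funext i
  exact Finset.sum_congr rfl fun j _ => by rw [iC_symm, mul_comm]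

theorem cw_top : nt_cw ![1, 0, 0, 0, 0, 0, 0] = (2 : ℤ) • ![2, 2, 3, 4, 3, 2, 1] := by decide +kernel

/-- **Kac coordinates** -/
theorem alc [Infinite K] {M : ℕ} (hM : 0 < M) {ζ : Kˣ} (hζ : IsPrimitiveRoot ζ (2 * M)) {t : Fin chevE7.rank → Kˣ}
    (h1 : Phi K t ^ (2 * M) = 1) (h2 : Phi K t ^ M ∈ Subgroup.center (Gh K)) :
    ∃ (w : List (Fin 7)) (s : Fin 7 → ℕ), ∑ i, Lb.mk i * s i ≤ M ∧
      Phi K t = nL K w * Phi K (lam (Bl.co fun i => (s i : ℤ)) ζ) * (nL K w)⁻¹ := by
  have : NeZero (2 * M) := ⟨by omega⟩
  obtain ⟨y, ⟨w, hw⟩, h⟩ := alcZ H944.E7Two.e7T hM _ _ 36 (by norm_num) H944.E7Two.theta7 (by decide) _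
    H944.E7Two.pos7 (fun s => ∃ w, Phi K t = nL K w * Phi K (lam (nt_cw s) ζ) * (nL K w)⁻¹)
    (fun s j ⟨w, hw⟩ => ⟨w ++ [j], by
      have e : H944.Kac.srefl chevE7 7 j s = s - s j • rc (chevE7.simple j) := by
        funext i
        show s i - chevE7.cartan j (chevE7.simple i) * s j = s i - s j * chevE7.cartan i (chevE7.simple j)
        rw [Lb.car_tab, Lb.car_tab, Lb.CM_symm, mul_comm]
      have e2 := nt_conj_lam (K := K) [j] (m := nt_cw (H944.Kac.srefl chevE7 7 j s)) (m' := nt_cw s) (by
        rw [nt_lE_cw, nt_lE_cw, e, ← sr_cv, map_smul, wL_cons, wL_nil, sr_sr]) ζ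
      rw [hw, nL_append, ← e2]
      group⟩)
    (fun s ⟨w, hw⟩ => ⟨w, by
      have e : (fun i => s i - (M : ℤ) * (![1, 0, 0, 0, 0, 0, 0] : Fin 7 → ℤ) i) =
          s + (-(M : ℤ)) • ![1, 0, 0, 0, 0, 0, 0] := by
        funext i
        rw [Pi.add_apply, Pi.smul_apply, smul_eq_mul]
        ring
      have e1 : ∀ m : Fin 7 → ℤ, lam m (1 : Kˣ) = 1 := fun m => lam_one m
      rw [e, nt_cw_add, nt_cw_smul, cw_top, smul_smul, nt_lam_add, nt_lam_smul,
        show -(M : ℤ) * 2 = -((2 * M : ℕ) : ℤ) by push_cast; ring, _root_.zpow_neg, zpow_natCast, hζ.pow_eq_one, inv_one,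
        e1, mul_one, hw]⟩)
    (by
      rw [← map_pow] at h1 h2
      have h3 : t ^ (2 * M) = 1 := isPhi.inj (by rw [h1, map_one])
      have h4 : ∀ i : Fin 7, ∃ n : ℤ, ζ ^ n = t i := fun i => by
        have h5 : t i ^ (2 * M) = 1 := congrFun h3 i
        obtain ⟨n, -, hn⟩ := (IsPrimitiveRoot.coe_units_iff.2 hζ).eq_pow_of_pow_eq_one (ξ := (t i : K))
          (by rw [← Units.val_pow_eq_pow_val, h5, Units.val_one])
        exact ⟨n, Units.ext (by rw [zpow_natCast, Units.val_pow_eq_pow_val, hn])⟩
      choose l hl using h4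
      have h5 : t = lam l ζ := funext fun i => (hl i).symm
      have h6 : ∀ i : Fin 7, (2 : ℤ) ∣ nt_lb l i := fun i => by
        have h7 := (isPhi.mem_iff _).1 h2 _ (simple_lt7 i i.2)
        have h8 : ch (rc (chevE7.simple i)) (t ^ M) = 1 := h7
        have h9 : ∑ j, rc (chevE7.simple i) j * l j = nt_lb l i := by
          rw [nt_lb, Finset.sum_apply]
          refine Finset.sum_congr rfl fun j _ => ?_
          show chevE7.cartan j (chevE7.simple i) * _ = l j * chevE7.cartan i (chevE7.simple j)
          rw [Lb.car_tab, Lb.car_tab, Lb.CM_symm, mul_comm]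
        rw [Bl.ch_pow, h5, ch_lam, h9, ← zpow_natCast, ← _root_.zpow_mul, hζ.zpow_eq_one_iff_dvd] at h8
        push_cast at h8
        exact Int.dvd_of_mul_dvd_mul_right (by omega) h8
      choose s hs using h6
      refine ⟨s, [], ?_⟩
      have h7 : (2 : ℤ) • nt_cw s = (2 : ℤ) • l := by
        rw [← nt_cw_smul, ← nt_cw_lb l]
        exact congrArg nt_cw (funext fun i => (hs i).symm)
      rw [smul_right_injective _ two_ne_zero h7, nL_nil, one_mul, inv_one, mul_one, ← h5])
  refine ⟨w, y, ?_, by rw [co_eq]; exact hw⟩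
  simp only [Fin.sum_univ_seven, Lb.mk, Matrix.cons_val] at h ⊢
  (clear * - h; solve | lia | omega)

/-- the same for a conjugate -/
theorem alc' [Infinite K] {M : ℕ} (hM : 0 < M) {ζ : Kˣ} (hζ : IsPrimitiveRoot ζ (2 * M)) {y g : Gh K}
    {t : Fin chevE7.rank → Kˣ} (hy : y = g * Phi K t * g⁻¹) (h1 : y ^ (2 * M) = 1) (h2 : y ^ M ∈ Subgroup.center (Gh K)) :
    ∃ (w : List (Fin 7)) (s : Fin 7 → ℕ), ∑ i, Lb.mk i * s i ≤ M ∧
      y = g * nL K w * Phi K (lam (Bl.co fun i => (s i : ℤ)) ζ) * (g * nL K w)⁻¹ := by
  have e : Phi K t = g⁻¹ * y * g⁻¹⁻¹ := by rw [hy]; group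
  obtain ⟨w, s, h3, h4⟩ := alc hM hζ (t := t) (by rw [e, conj_pow, h1]; group) (by
    rw [e, conj_pow]
    exact (Subgroup.normal_of_characteristic _).conj_mem _ h2 _)
  exact ⟨w, s, h3, by rw [hy, h4]; group⟩

end Cfsg.Agent.E7P.E81
end

private theorem dce_de9b34125dd4 : _root_.True := by
  try have : _root_.True := by simp only [_root_.Cfsg.Agent.H943.SL2Rel.h.eq_1]
  try have : _root_.True := by simp only [_root_.Cfsg.Agent.E7P.Bl.Dg.eq_1]
  try have : _root_.True := by simp only [_root_.Cfsg.Agent.E7P.Bl.Lo.eq_1]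
  try have : _root_.True := by simp only [_root_.Cfsg.Agent.E7P.Bl.nb.eq_1]
  try have : _root_.True := by simp only [_root_.Cfsg.Agent.E7P.Bl.qf.eq_1]
  try have : _root_.True := by simp only [_root_.Cfsg.Agent.E7P.Bl.co.eq_1]
  try have : _root_.True := by simp only [_root_.Cfsg.Agent.E7P.Bl.ra.eq_1]
  exact _root_.True.intro
end

-- part: E7P/Top/Cmb
section
prune_inst 0x404206c006180000000000012c2002620660004900023080071e007460fcf75228942a760fe901d0028cc3284783c000000100040408000000a083400011f01a098a01000b708430cac04978030b7795c00009040000000000000000000041004000000000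
set_option linter.all false
open scoped Cfsg.Agent.FastGrp

/-!
# S5932, task SSC: the subsystems `E₆` and `A₇` (helper71)

`Top.count` : if the levels of the roots of the centraliser of a square root of `-1` are `0, ± d`, then the number of
the roots of level `d` is `0`, `7` or at least `10`.
-/

set_option autoImplicit false
set_option maxRecDepth 100000

namespace Cfsg.Agent.E7P.Top

open Cfsg Cfsg.Lie
open Cfsg.Agent.ChevalleyStructure.RootVec
open Cfsg.Agent.E7P.Kf

/-- the coordinates of the positive roots -/
def RN : ℕ := 29879103508618372402345737617956849294774315251279912174364160652890545633260400994945975050737099222127672264603036932887948903847837812763586837017654048582619557605292974311561378122903176282766565952571121293684415857879077348233595405634784387502241078806542204103308299045300508569222662945747106238468569802356039273013281105442794268865960424302133276536209713927324043274635031909958418432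

/-- the coordinates of the positive roots -/
def rl (r j : ℕ) : ℕ := RN / 8 ^ (7 * (r - 63) + j) % 8

/-- binary digits -/
def bt (n j : ℕ) : ℕ := n / 2 ^ j % 2

/-- sums of seven terms -/
def s7 (f : ℕ → ℕ) : ℕ := f 0 + f 1 + f 2 + f 3 + f 4 + f 5 + f 6

/-- the parity of a root -/
def par (n r : ℕ) : ℕ := s7 (fun j => rl r j * bt n j) % 2

/-- the base and the highest root -/
def bas (B i : ℕ) : ℕ := 63 + B / 64 ^ i % 64

/-- the coefficients -/
def cf (N r i : ℕ) : ℕ := N / 4 ^ (7 * (r - 63) + i) % 4

/-- the levels -/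
def lev (N r x : ℕ) : ℕ := s7 fun i => cf N r i * bt x i

/-- the certificates -/
def CD : List (ℕ × ℕ × ℕ) :=
  [(2, 276559555997760, 10748056738754552126593020921664957883696259927274846628766129464783351454688672441580203750029900317779860055166219494745710650764703177039165332959785259701683422700364283697913656749034249724541874972485680576240535671696472600755371959116646984957975714997534721),
   (3, 272717707751488, 4898477673518176370005956756545797516964855708336498342046688629222034482324082327621804910993111943490327246830791554843550060768678836210085188803724146062741012007883730605441838610586176771677919372963819324082005368189298322899648354487433193393051679282233345),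
   (6, 263915340050496, 12618355256729816883874794404107276934485151044206520023413030459517296699604933520235111584260947133925727691081830854366477314862728995234013409337633599457010531283968827119340132877475958625384331126080138707442188427733579746229774657392328300784844801),
   (7, 268314460303424, 206726983397966225532485807401848169682830695869534985154250966273168409939777904725918978902706091928112077852574237584182767827393105281011203601381276476919410258759401842095135548187111023813110466707096992480023348632874818547262352387182245862869685043201),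
   (10, 276284779802688, 10748056740160369132988662070034414505945914802863268454771348851352045720220820059348975752255887565719373023197656881548077644294093491472984008160856606977114116219296623982779273259075397785767533992268084107640024076902543245437632600280011692658908763114242049),
   (11, 272713514496064, 5276343367900392326670176492096346562521785552092252982408961747708396293347695805748005454717580136236900139274244274016724006484809751075751704730622219078433203074376021544513533530146395357750012293183797360913783625916195350447473933893677286195352958952079361),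
   (14, 263915274252352, 12617613732786024507607108455635475392852553086427074026441947872712634181814010769420765207402615277753908624719148928738271290487077991760375162785159815092899519995496314085489174262703035433549123872698778783354479445812383344927987904597294197241872385),
   (15, 268314394505280, 206726984139490169324862075087796641484372328467492764600247937355755214602295695648669793249082950259968249671640600266108396033417480932014677239627828950703769636135543770183268290387675118009304642782021104035412722534318980192762502881635113148889146916865),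
   (16, 257177527279680, 149160951240166680962428516523693143005676459041715730169834229419881707844381462716529182648336670888255951313121838890355403163964498533398796416074505802088724348831646218007839873112584593090505504678707838758937754349727773447562664144021815297),
   (17, 270577825243200, 656016361267643521212086287677994638636467869635710585407177408734394808413950053142325194816211913009014770882489049532985976937093903963476775528082250126955754045465755110300034939520780662915964606064357208799293810339555511535491465719661553989211459223553),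
   (20, 272711350771776, 5465486785922402379451741139653025723636491577319320366501463122123336300141839241915434025615012269860694021849765946431337203718192905999729775756225011902351789219547235351523363308628078208408574423376993487227709289162189333433809651679796551888134282131079169),
   (21, 275667362013248, 10747523766996856753294973125160237789026742140729441804892653232232045294683021825187682748522346766488235689101553568906544279386167230653073139827913398803252886717070942821953779842665053394039482212893060925145154056617316826694603996634808232524893321322102785),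
   (24, 259517210718272, 770118025682740762735329882598629438647999949088929850591918677349960135869561472759821795055334636624842750191392906938170023556032154800566633882782008914111326943441770008475391041426251866614380851031209362559284383876363711999125880167852832522241),
   (25, 268315451224128, 206739131791942033291339507467960949390377556987311016455772424181808050211491296425051515617380927283941162363405590626862114709552816204518693570022955444323730403970363724825411189428694787050296239708089276419096984631836632052087158003691900621384616837121),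
   (28, 276078604873792, 10748056708101416705709769248180583040317062247142461316173119610679231985224001944595482207838810735379165492344462626573181564636303066890369102982652725424392062547770070961514317651685472940313638652811006683787199073430782295673196381616165408364580057097764865),
   (29, 272712424255552, 5276343380048044778534142969528726726829691557320772800660817272195222346183305001346145679691229123765214787317415381364279306158734455622457565753694909016135781596669722811212972660775404498152312682353081005453598267688799919657274529771018340522715123063783425),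
   (34, 272711400579264, 5489104845736212215143566739533399549499711365206642959878550241301254317112102595036383631210106762560878191355928582022772143943748512599531676263223015014589930014273167445019081769210625041521185341175985081034284927349879011279388570517597949218226612291502081),
   (35, 275189596709056, 10747523734464749359831635535131982936967469112757445492946783305679835826761938686441739424230907061927079370005352631936405960328130811845879533657153366132724551945419758603564564721987615317039297333983820127299954996961139071621633942510974880667137119319228417),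
   (38, 265966155227328, 40040082593343740469725330314972309521193677631878316754524650608080708221259712065660712313420761614683570200343623489898712104969308212966947997032819669793070314025312450708799592194017819625669433217776495480002994118592136294337048848197695585405370369),
   (39, 270432921215168, 655976790433639496291327396397192677025132117447270196017387943346749160173148077251840665645082406991259835467704852921561841935824231705739671631163090181601419857158725649584743426036843826380249512288797187794557748445709119334794028730894182235694037991425),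
   (42, 272711367033024, 5489104845735458160592360669569675172076756784572181591729228233427823869654104946684199816932545830503654857730784099322035579626859292119584163180367143419463854802302194041291357876159472298419732742598934060752455601467992944416913248073997226048025947615002625),
   (43, 275324854632640, 10747523734466734962409887100686490809721016198734300983210599133973718062493591475765527112567676235234828988237332812225423728860389225878576421096168987048109617511819848958748691747198844995919377443376109573815483942293427149833141778786622942550512391759593473),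
   (46, 265968268640448, 40037645900499768751740088834054777722476925916384542195569597048061963781944159022603637259864737660125965308304804360278319796511155381873526575433642382031225765298278224781133045368314371043376496439846395713651847353957972448207444524184359508696367105),
   (47, 270435034628288, 655976792848851851419228602856788755450489512818876986217120620005619203460901049034159899054342207189134096784971916568370689696592856453633346653260681061998461543922141950553006748996808645460839785400348751808086891318505017588851663625787569732255261655041),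
   (48, 255119164203264, 47004274028487595381795036779826374015848915853494266461225253002080581697457214051389992710918026210074270839680353135788352417843836444012120647381501008540195581945980343146101963259462249804218369777709197104259135715416762132983345465593430017),
   (49, 268316524962048, 206739132526216609776927446676258620603731793662943266700862273574056740222508896484708896877568631119859293598049242775205611980500180151288313836642410815636078842329790088157352765797168264453933139874029546035363342778153066756117292143779210021012867383297),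
   (52, 275941166178560, 10748056708099459982539158964169308880927547775829101968247833781618070657310224096444289625658992395423569016607083863707033330223567639257574480349649062677370057858973228379367021538763320803375290565318727903887608597937251721217200588568598308574647066969505793),
   (53, 272712424513792, 5276343380048779053110628557467935024500904911557448432911062362044614594872604029664547311387872237037121591613207940284680987649817051112403909257476197506914018318224931288565627339325994358236743743130697126123176042957632378169208262260393336336831223552802817),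
   (56, 261573426311424, 2443703982516015146625567480370532114585387822989898519357384460716950784602589513546440744184659661511853413897477501801791894180275379774801739115540356217309691868457990262228773727902482947211578110131699448708838247931797254313485539019520525467649),
   (57, 270506958287104, 656016358859885144570435643665040003130954823787324630461987766688513477733935218059414663556022675160970037534131587378707546166526190497723250790615142992891028776254321883141444704197614497275541354339589585727853470418989965810770615154671280954170010501121),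
   (60, 272711350513920, 5465486785923158131895180602193793011557514028781340143811008324716046475885027311031487891243018415378763916366555980566319742418957688622654132956120648303987639194918338135199524823331955534471655144450726454614207997502116857342026702370087616593009816100667393),
   (61, 275529922801920, 10747523766994878552257408966547404639387418572190752430974481282121919220573157949759965652459882144622326736331322098783542072132650722179980438995266387991291504404603401882130349158920723256157193877663298734622000588057869522438133934068542458602166667305811969),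
   (64, 246391790657729, 175104566024570149860512602254101537228796026595782290034794953516843114241290694920524017263123347219377076777782295104038304995752402426158352095080707550070826736843485604525273925770284703043180069602727187918903613855964947829646966784),
   (65, 268387391922369, 206739132526261319825404640118367332776216335639110675902603005243385778358406311503217390580284895451473263848291756870515480368105511378778388119397946657895658054819910140272921407567228184180561575372345886529447896745090341378519240515344969761500828811264),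
   (68, 275872447226049, 10748056708099459863102965146130966268217319223571510762998673221225181868377342541654569462946920501765887496663837377738787902094759389758955945033437766733865155284322714127524553304868661614516511204065110905927085242879079521391166372396142196583105516317720576),
   (69, 272781144514753, 5276343380048779097820677034661377133213077396099424600320264102776283912228397176697510328862009939886990765825819088959062124007364703343834110607999030393595573817352563405146257373369678787340443526298413643500764190405880033506199006167867527514974602766860288),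
   (72, 261572352577729, 2443853025118890900888428814716861103907852378203216927256049241191579520216452638920795300812943695090973412436696296892786136285651990208972545445235088576041242524801901812859048793809658614000359296077084597601587433471219407233841256277177918308352),
   (73, 270505884553409, 656016358859738177692106152624176339197891319746077051224784306244081862161890853532267060780649610764500597312874143981736669494825561115680121558590451636981390549645099622577672485330724598706120848506016340371555242716155336411523175271288669177797190631424),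
   (76, 272780069998785, 5465486785923158177916214056123077894124624823177951737540174973420256918760922787729224808491882479570891888074386740120463688827384139696690250649031370661163229893238351410051850993519154633411734285032672188473885098286357142697032227297079087953202153401630720),
   (77, 275461203333313, 10747523766994878431510230171773219252822251710309838465327541167026761550555580922456871130992673999435739529982869468864255393825989891662955492865569853829475964098639079973023588477699836542815567376641341308379957148085788140465114105889149440240351747049013248),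
   (82, 272780103278913, 5489104845736212169231780366763573591644535461004133635819596117467663371556864297017576043462694327116114446149477583826126560949005033708272042348415856299253380672677904305235757809660209128633268426367964923437974987253619981416923115249461922372533792398131200),
   (83, 275188506190145, 10747523734464749481015807655249584753284976761379666391216783921237698241814052473077800417384676075940281767422732358873293158007169197600521106368441351298632513949245868531783864926835688076976579502260342375019378035033398274794283559337428255594287494143688704),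
   (86, 265966138188097, 40040082444738130919314489922139807124961347616749117668822354356813619075564518333246252955768162784600726307535154607941943606232397885456883706763528671363745985214290910867430986719557808991289648146515333665070233501201476799669961419302310573808566272),
   (87, 270432904175937, 655976790433786900162982230852957833307567064578168888183995183708991740002538636006036574198816262610576784922737046556088032863728836427634002284099412683998380718918167527065701198581176715657007060141173963613199625796872232194207225231350175083648887308288),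
   (90, 272780086505793, 5489104845735458206613394123498958966819938489429498492592773601419526204315111491156296735323036528706564228746449158688602194108131343763283265162593413552947682494955625702518214129349167325418727386544566866545094005989488554255563273349900023951824747690475520),
   (91, 275256135151937, 10747523734466734841334962061728346830291514350044681956755493124188497759218382976668049893000864739840126357509134723656208161765028494929069108725963845209163356768593780824915767063605890447527158194123918355944484005785795364057044401407288205465083081132097536),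
   (94, 265967194894657, 40037646049214625383310387063775285920012152646818348485433952831583534110441561121828138515286998727442849456433053840907730519102650222318341570257292532626582744404862157844211314592798788544711658563191909753051885179384890260106292972555917321220145152),
   (95, 270433960882497, 655976792848704556794654927858860487173854150803758828085498043785666580563853449866046174901018948285300358179966621718186851222609093654009163631460042111899918770693998254553845893818232082625328653053338173982873878791266536126746243829812517829293673299968),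
   (96, 250858556645570, 2868913209746557335314638475331199585956592372802978031923862253690815988344254041222705244165094114285907481590106860761305669261994269389528151618028953036112034118679535281890315845278169070401922580683027435304126404125162196607368549105664),
   (97, 268455037657282, 206739132526261317098353193241347226264766819098720662490088178292354512093667581991688663183633229844790955062898844074242124111945000494500351019284499991572978160799404061747621669458355128618548581446437117598303516349305324435110000721129592960858187628544),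
   (100, 275872446963906, 10748056708099459863110254507975216395932467849055322639178506265796509201306623264840629901542852626364715969322556012022498596802398733398132773861425219407509713503948467054838927603128829187114233585029915788940698241006223368867250425651593955770767477324120064),
   (101, 272849863729346, 5276343380048779097817949983214500113106565946582884210306851587949332880962845156158861000352065247543457483905675807502649354900740207894311638811806373295719172980483486333296018208921077094280443095089868637783278787057471108166417900106520218991453019886845952),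
   (104, 261572352573634, 2443853016024274339665310401667592005771647139166575057136599167161777203909251308996745700710532880160094898599878276905932207965110681520670009437926956060934065948766160957720550519345991180986174959354214926486286356426240025015489531639541130067968),
   (105, 270505884549314, 656016358859738186661705074167724759317752965367323766083673001208183193513304542580195302873871799201657687064069986595813579035510448943877037925674993478249793435040312248477291202756821368807998710331185852363308531181495846572087944987319123730696144683008),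
   (108, 272848789471426, 5465486785923158177913406993386805949222638552891813866806455091260566079630157165231880056338991534752594538946836827149353888783966470793487198572686627622961486160221318910005340385151187351147499560236756869543770155102383499871737841764957512747688407435575296),
   (109, 275461203329218, 10747523766994878431517599544906864305332875156563233704884576065376411216347333288285878924026545574666517817571205256170755339436321120956544968185180279452334906670181575286598844093133978286153374431497529279646236891041316454740681961702608948317542363200225280),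
   (114, 272848822755586, 5489104845736212169234582428794258353680436235218796946685081349290217351576485295577358133088507431678205564119409962777898357279060046807817700237851187190855553542376218483984493887384513616775792525643893335551909248892398565847393258607404189289163059835699200),
   (115, 275188506190082, 10747523734464749481008413278588003786903946889844991360743302733230196459647978789031849268049624059067290769573324509132188972682293920196279591941159486852108530728283017765892513256672251969717226078782314281946939109110415481733685542208904526390828137158017024),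
   (118, 265966138188034, 40040082444747200532347777126313942707018063403702016836035372821824382490938558637649605910739493195008695312910593937620002332423314171828519816897218442688704873678268162204150987187124358622126726726605963068548377303096734426020004155162624796716433408),
   (119, 270432904175874, 655976790433786891168379781373495636053174639678853397874588789463002603121971700760587033277377230970115947145484982125366781761406277673727553276804095691476608246460870412530087162502604188605178391482389627989558042854849498796218869583853724110188376489984),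
   (122, 272848805982466, 5489104845735458206610587060762687021984320538916719402929546445987807834733148030852298552927422287394527297111026972090364285499178103248725649115858859669878872764082132467844239267931941894553095250287541161530085189257833003512263218316513051529560167054049280),
   (123, 275256135151874, 10747523734466734841342351437684340613872827045281285275159867550432224427785178234210194696153168111225391703345598556018131768398096460811894429003941084700761576292990355068051577711187884000509367713730008563563939894350272148352070856660639008346451869670834176),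
   (126, 265967194894594, 40037646049205550769571512676801433161657281527260195289446178265957951247322907402855860564995266509585047938724142625111420811777838345633945879371307170746985141310767081598927978575480584671168667166805581433790157301457594146743730772365568792923734016),
   (127, 270433960882434, 655976792848704565784256671751139884711070277652569822677611826871672297440288468514664617500489915225641596591548422506954884073184489559496109000555387565578714296164563132512495951367315489257757240319671356538552230734339115561325927131293423155089183342592)]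

/-- the allowed numbers -/
abbrev Good (m : ℕ) : Prop := m = 0 ∨ m = 7 ∨ 10 ≤ m

theorem chk_rl : ∀ r < 126, 63 ≤ r → ∀ j < 7, rt chevE7 r j = rl r j := by decide +kernel

theorem chk_n : ∀ n < 128, (bt n 1 + bt n 4 + bt n 6) % 2 = 1 → n ∈ CD.map Prod.fst := by decide +kernel

theorem chk_1 : ∀ e ∈ CD, ∀ i < 8, bas e.2.1 i < 126 ∧ par e.1 (bas e.2.1 i) = 0 := by decide +kernel

theorem chk_2 : ∀ e ∈ CD, ∀ r < 126, 63 ≤ r → par e.1 r = 0 → ∀ j < 7,
    rl r j = s7 fun i => cf e.2.2 r i * rl (bas e.2.1 i) j := by (delta Cfsg.Agent.E7P.Top.par Cfsg.Agent.E7P.Top.rl Cfsg.Agent.E7P.Top.s7 Cfsg.Agent.E7P.Top.cf Cfsg.Agent.E7P.Top.bas Cfsg.Agent.E7P.Top.bt; set_option synthInstance.maxSize 100000 in exact Cfsg.Agent.Lib.Refl.of (by decide +kernel))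

theorem chk_3 : ∀ e ∈ CD, ∀ x < 128, lev e.2.2 (bas e.2.1 7) x < 2 →
    Good ((Finset.range 126).filter fun r => 63 ≤ r ∧ par e.1 r = 0 ∧ lev e.2.2 r x = 1).card := by (delta Cfsg.Agent.E7P.Top.lev Cfsg.Agent.E7P.Top.bas Cfsg.Agent.E7P.Top.Good Cfsg.Agent.E7P.Top.par Cfsg.Agent.E7P.Top.s7 Cfsg.Agent.E7P.Top.cf Cfsg.Agent.E7P.Top.bt Cfsg.Agent.E7P.Top.rl; set_option synthInstance.maxSize 100000 in exact Cfsg.Agent.Lib.Refl.of (by decide +kernel))

theorem s7_eq (f : ℕ → ℕ) : s7 f = ∑ i ∈ Finset.range 7, f i := by
  simp only [s7, Finset.sum_range_succ, Finset.range_zero, Finset.sum_empty, zero_add]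

theorem exists_bits (e : ℕ → ℕ) (he : ∀ j, e j < 2) : ∃ n < 128, ∀ j < 7, bt n j = e j := by
  have h0 := he 0
  have h1 := he 1
  have h2 := he 2
  have h3 := he 3
  have h4 := he 4
  have h5 := he 5
  have h6 := he 6
  refine ⟨e 0 + 2 * e 1 + 4 * e 2 + 8 * e 3 + 16 * e 4 + 32 * e 5 + 64 * e 6, by omega, fun j hj => ?_⟩
  unfold bt
  interval_cases j <;> omega

open Classical in
theorem count {β : E} (hβ : Dom β) {P : ℕ → Prop} {n : ℕ} (hn : n < 128) (hodd : (bt n 1 + bt n 4 + bt n 6) % 2 = 1)
    (hP : ∀ r < 126, 63 ≤ r → (P r ↔ par n r = 0)) {d : ℝ} (hd : 0 < d)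
    (hlv : ∀ r < 126, P r → bf β (rv r) = 0 ∨ bf β (rv r) = d ∨ bf β (rv r) = -d) :
    Good ((Finset.range 126).filter fun r => P r ∧ bf β (rv r) = d).card := by
  obtain ⟨e, he, rfl⟩ := List.mem_map.1 (chk_n n hn hodd)
  have h63 : ∀ i, 63 ≤ bas e.2.1 i := fun i => Nat.le_add_right _ _
  have hb : ∀ r < 126, 63 ≤ r → bf β (rv r) = ∑ j : Fin 7, β j * (rl r j : ℝ) := fun r hr hr' => by
    rw [bf_rv _ hr]
    exact Finset.sum_congr rfl fun j _ => by rw [chk_rl r hr hr' j j.2, Int.cast_natCast]
  obtain ⟨x, hx, h1⟩ := exists_bits (fun i => if bf β (rv (bas e.2.1 i)) = d then 1 else 0) fun j => by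
    split_ifs <;> norm_num
  have h2 : ∀ i < 7, bf β (rv (bas e.2.1 i)) = bt x i * d := fun i hi => by
    obtain ⟨h3, h4⟩ := chk_1 e he i (by omega)
    rw [h1 i hi]
    split_ifs with h5
    · rw [h5, Nat.cast_one, one_mul]
    · have h6 := hβ.pos h3 (h63 i)
      rw [Nat.cast_zero, zero_mul]
      rcases hlv _ h3 ((hP _ h3 (h63 i)).2 h4) with h7 | h7 | h7
      · exact h7
      · exact absurd h7 h5
      · linarith only [hd, h6, h7]
  have h3 : ∀ r < 126, 63 ≤ r → par e.1 r = 0 → bf β (rv r) = lev e.2.2 r x * d := fun r hr hr' h3 => by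
    rw [hb r hr hr', lev, s7_eq, Nat.cast_sum, Finset.sum_mul,
      Finset.sum_congr rfl fun (j : Fin 7) _ => by rw [chk_2 e he r hr hr' h3 j j.2, s7_eq, Nat.cast_sum, Finset.mul_sum],
      Finset.sum_comm]
    refine Finset.sum_congr rfl fun i hi => ?_
    have hi' := Finset.mem_range.1 hi
    rw [Nat.cast_mul, mul_assoc, ← h2 i hi', hb _ (chk_1 e he i (by omega)).1 (h63 i), Finset.mul_sum]
    refine Finset.sum_congr rfl fun j _ => ?_
    rw [Nat.cast_mul]
    ring
  have h4 : lev e.2.2 (bas e.2.1 7) x < 2 := by
    obtain ⟨h4, h5⟩ := chk_1 e he 7 (by omega)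
    have h6 := hlv _ h4 ((hP _ h4 (h63 7)).2 h5)
    rw [h3 _ h4 (h63 7) h5] at h6
    by_contra h7
    have h8 : (2 : ℝ) ≤ lev e.2.2 (bas e.2.1 7) x := by exact_mod_cast not_lt.1 h7
    rcases h6 with h6 | h6 | h6 <;> nlinarith only [hd, h8, h6]
  have h5 := chk_3 e he x hx h4
  rwa [Finset.filter_congr (q := fun r => P r ∧ bf β (rv r) = d) fun r hr => ?_] at h5
  have hr' := Finset.mem_range.1 hr
  constructor
  · rintro ⟨h6, h7, h8⟩
    exact ⟨(hP r hr' h6).2 h7, by rw [h3 r hr' h6 h7, h8, Nat.cast_one, one_mul]⟩
  · rintro ⟨h6, h7⟩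
    have h8 : 63 ≤ r := by
      by_contra h8
      have := hβ.neg (not_le.1 h8)
      linarith only [hd, h7, this]
    have h9 := (hP r hr' h8).1 h6
    refine ⟨h8, h9, ?_⟩
    rw [h3 r hr' h8 h9] at h7
    exact_mod_cast (mul_eq_right₀ hd.ne').1 h7

end Cfsg.Agent.E7P.Top

private theorem dce_297ce26fcb70 : _root_.True := by
  try have : _root_.True := by simp only [_root_.Cfsg.Agent.E7P.Top.s7.eq_1]
  try have : _root_.True := by simp only [_root_.Cfsg.Agent.E7P.Top.lev.eq_1]
  exact _root_.True.intro
end

-- part: E7P/Top/Ssc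
section
prune_inst 0x404001000408000000000000040003e02e6000490000880014000044404882c4209408060b4a0110828080c04083c0048111000300280000000080400011d0080888040021200e10ca404878000b0615000009040000000000000000000000004000000000
set_option linter.all false
open scoped Cfsg.Agent.FastGrp

/-!
# S5932, task SSC (helper71)

`Sit.ssc : p ≠ 2 → S.SSC`.
-/

set_option autoImplicit false
set_option maxRecDepth 100000

namespace Cfsg.Agent.E7P

open Cfsg Cfsg.Lie Matrix Module
open Cfsg.Agent.ChevalleyStructure.RootVec
open Cfsg.Agent.H943.E7V.Block (D1 rho)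
open Cfsg.Agent.R2.T1 Cfsg.Agent.E7P.Kf
open Cfsg.Agent.H952.F4 (ev)
open Cfsg.Agent.H943.SL2Rel (u w h)

universe u v

namespace Top

variable {k : Type u} [Field k]

theorem center_sq {z : Gh k} (hz : z ∈ Subgroup.center (Gh k)) : z * z = 1 := by
  apply faithful
  rw [map_mul]
  rcases V_center hz with h1 | h1 <;> rw [h1]
  · exact mul_one _
  · exact neg_one_mul (α := Module.End k (D1 → k)) _ |>.trans (neg_neg _)

theorem ev_neg (T : Module.End k (D1 → k)) : ev (-T) 1 = ev T (-1) := by
  unfold ev
  rw [show (-T).eigenspace 1 = T.eigenspace (-1) from Submodule.ext fun x => by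
    rw [Module.End.mem_eigenspace_iff, Module.End.mem_eigenspace_iff, LinearMap.neg_apply, neg_smul, neg_eq_iff_eq_neg]]

theorem xs_inj {r : ℕ} (hr : r < 126) {s t : k} (e : xs k r s = xs k r t) : s = t := by
  have h1 := congrArg (rho k) e
  rw [rho_xs' hr, rho_xs' hr, add_right_inj] at h1
  obtain ⟨i, j, hij⟩ := exists_NM_ne (K := k) hr
  exact mul_right_cancel₀ hij (congrFun (congrFun h1 i) j)

theorem prod_pow_bt {n : ℕ} {t : Fin chevE7.rank → kˣ} (hn : ∀ j < 7, rtv (chevE7.simple j) t = (-1) ^ bt n j)
    (c : ℕ → ℤ) (c' : ℕ → ℕ) (hc : ∀ j < 7, c j = c' j) :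
    ∏ j ∈ Finset.range 7, rtv (chevE7.simple j) t ^ c j = (-1) ^ s7 fun j => c' j * bt n j := by
  rw [s7_eq, ← Finset.prod_pow_eq_pow_sum]
  refine Finset.prod_congr rfl fun j hj => ?_
  rw [hn j (Finset.mem_range.1 hj), hc j (Finset.mem_range.1 hj), zpow_natCast, ← pow_mul, mul_comm]

theorem rt_topv : ∀ j < 7, rt chevE8 (nn topv) j = ([2, 3, 4, 6, 5, 4, 3].getD j 0 : ℕ) := by decide +kernel

/-- the signs of a square root of `-1` -/
theorem exists_signs (h2 : (2 : k) ≠ 0) {t : Fin chevE7.rank → kˣ} (ht : V k (Phi k t * Phi k t) = -1) :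
    ∃ n < 128, (bt n 1 + bt n 4 + bt n 6) % 2 = 1 ∧ ∀ r < 126, 63 ≤ r → (rtv r t = 1 ↔ par n r = 0) := by
  classical
  have hm : (-1 : kˣ) ≠ 1 := fun h0 => h2 (by
    have h1 : (-1 : k) = 1 := congrArg Units.val h0
    linear_combination -h1)
  have h1 : ∀ r < 126, rtv r t = 1 ∨ rtv r t = -1 := fun r hr => by
    have h3 : Phi k (t * t) ∈ Subgroup.center (Gh k) := by
      rw [map_mul]; exact mem_center_iff.2 (Or.inr ht)
    have h4 : ch (rc r) (t * t) = 1 := (isPhi.mem_iff _).1 h3 r hr
    refine units_sq ?_
    rw [sq, ← h4]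
    unfold ch rtv
    rw [← Finset.prod_mul_distrib]
    exact Finset.prod_congr rfl fun i _ => (mul_zpow _ _ _).symm
  obtain ⟨n, hn, h3⟩ := exists_bits (fun j => if rtv (chevE7.simple j) t = 1 then 0 else 1) fun j => by
    split_ifs <;> norm_num
  have h4 : ∀ j < 7, rtv (chevE7.simple j) t = (-1) ^ bt n j := fun j hj => by
    rw [h3 j hj]
    split_ifs with h5
    · rw [h5, pow_zero]
    · rw [pow_one]
      exact (h1 _ (simple_lt7 j hj)).resolve_left h5
  refine ⟨n, hn, ?_, fun r hr hr' => ?_⟩
  · have h5 := wt_eq' topv t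
    rw [prod_pow_bt h4 _ _ rt_topv] at h5
    have h6 : wt botv t * wt botv t = -1 := by
      apply Units.ext
      have h7 := congrFun (LinearMap.congr_fun ht fun _ => 1) botv
      rw [V_mul, V_apply, V_apply, rho_Phi, mulVec_diagonal, mulVec_diagonal, mul_one] at h7
      exact h7
    have h7 : wt botv t * wt topv t = 1 := by rw [wt_bot, inv_mul_cancel]
    rw [h5, ← mul_assoc, h6, ← pow_succ', neg_one_pow_eq_one_iff_even hm, Nat.even_iff] at h7
    simp only [s7, List.getD_cons_zero, List.getD_cons_succ] at h7
    omega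
  · rw [rtv_eq hr, prod_pow_bt h4 _ _ (chk_rl r hr hr'), neg_one_pow_eq_one_iff_even hm, Nat.even_iff]
    rfl

end Top

namespace Sit

open Cfsg.Agent.E7P.Top

variable {p a b : ℕ} {F : Type u} {K : Type v} {k : Type u} [Field F] [Fintype F] [Field K] [Fintype K] [Field k]
  (S : Sit p a b F K k)

/-- the involutions -/
theorem ssc_two (hp : p ≠ 2) {y : Gh k} (hσ : V k (S.σ y) = - V k y) (hy : y * y = 1) : False := by
  have := S.closed
  have := S.chark
  have : Fact p.Prime := ⟨S.prime⟩
  have h2 := S.top_two hp
  have hζ : IsPrimitiveRoot (-1 : kˣ) 2 := by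
    rw [← IsPrimitiveRoot.coe_units_iff]
    exact IsPrimitiveRoot.neg_one p hp
  obtain ⟨P, hP, h1⟩ := exists_pat chk2 two_pos hζ
    (frameK p S.alg two_ne_zero (coprime_of_cast S.prime (by exact_mod_cast h2)) (y := y) (by rw [sq, hy]))
  have h3 := (h1 0 two_pos).1
  have h4 := (h1 1 one_lt_two).1
  have h5 := ev_V S.s y 1
  rw [map_one, show emb S.s y = S.σ y from rfl, hσ, ev_neg] at h5
  rw [pow_zero, ← h5] at h3
  rw [pow_one, Units.val_neg, Units.val_one, h3] at h4
  revert h4
  revert P
  have key : ∀ P ∈ T2, P.1.getD 0 0 ≠ P.1.getD 1 0 := by decide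
  intro P hP _ _ h4
  exact key P hP h4

/-- **SSC** -/
theorem ssc (hp : p ≠ 2) : S.SSC := by
  classical
  intro y hy hσ
  have := S.closed
  have := S.chark
  have h2 := S.top_two hp
  have hz := S.σ_σ_of_neg hσ
  obtain ⟨z, hz'⟩ : ∃ z, z = y⁻¹ * S.σ y := ⟨_, rfl⟩
  rw [← hz'] at hz
  have e : S.σ y = y * z := by rw [hz']; group
  have hzc := Subgroup.mem_center_iff.1 hz
  have hyA := S.mem_CA.2 hy
  have hy2 : y * y ∈ Subgroup.center (Gh k) := S.cent_fix (S.mem_CA.1 (mul_mem hyA hyA)) (by
    rw [map_mul, e, mul_assoc, ← mul_assoc z, ← hzc, mul_assoc, center_sq hz, mul_one])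
  rcases V_center hy2 with h3 | h3
  · exact S.ssc_two hp hσ (faithful h3)
  have hnc : y ∉ Subgroup.center (Gh k) := fun hc => S.ssc_two hp hσ (center_sq hc)
  have hy4 : y ^ 4 = 1 := by rw [show 4 = 2 * 2 from rfl, pow_mul, sq, sq, center_sq hy2]
  have hP : y ∈ S.P := S.mem_P_of_norm fun x hx => by
    obtain ⟨t, rfl⟩ := hx
    rw [mul_assoc, hy, inv_mul_cancel_left]
    exact ⟨t, rfl⟩
  obtain ⟨g1, hg1, t, e1⟩ := exists_conj_T_Pl S.prime S.alg (N := 4) (y := S.g0⁻¹ * y * S.g0)
    (by rw [show ((4 : ℕ) : k) = 2 * 2 by norm_num]; exact mul_ne_zero h2 h2) (by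
      have h4 := conj_pow (a := S.g0⁻¹) (b := y) (i := 4)
      rw [inv_inv] at h4
      rw [h4, hy4, mul_one, inv_mul_cancel]) (S.mem_P.1 hP)
  obtain ⟨g, hg⟩ : ∃ g, g = S.g0 * g1 := ⟨_, rfl⟩
  have e2 : y = g * Phi k t * g⁻¹ := by
    rw [hg, show S.g0 * g1 * Phi k t * (S.g0 * g1)⁻¹ = S.g0 * (g1 * Phi k t * g1⁻¹) * S.g0⁻¹ by group, ← e1]
    group
  let C : Subgroup (Gh k) := Subgroup.zpowers y ⊔ Subgroup.center (Gh k)
  have hyC : y ∈ C := Subgroup.mem_sup_left (Subgroup.mem_zpowers y)
  have hC : ∀ {T : Subgroup (Gh k)}, y ∈ T → (∀ z ∈ Subgroup.center (Gh k), z ∈ T) → ∀ c ∈ C, c ∈ T := fun h4 h5 =>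
    sup_le (Subgroup.zpowers_le.2 h4) h5
  obtain ⟨d, hd, h4, h5⟩ := S.top hp C g S.β
    (fun c hc => by
      obtain ⟨_, ⟨s, rfl⟩, rfl⟩ := hC (T := (Phi k).range.map (MulAut.conj g).toMonoidHom) ⟨_, ⟨t, rfl⟩, e2.symm⟩
        (fun z hz => ⟨z, isPhi.center_le hz, by
          show g * z * g⁻¹ = z
          rw [Subgroup.mem_center_iff.1 hz, mul_inv_cancel_right]⟩) c hc
      exact ⟨s, rfl⟩)
    (hC (T := C.comap S.σ) (by
      rw [Subgroup.mem_comap, e]
      exact mul_mem hyC (Subgroup.mem_sup_right hz)) fun z hz => by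
      rw [Subgroup.mem_comap, S.k_σ_center hz]
      exact Subgroup.mem_sup_right hz)
    (fun m hm => hC (T := C.comap (MulAut.conj m).toMonoidHom) (by
      show m * y * m⁻¹ ∈ C
      rw [show m * y * m⁻¹ = y * (y⁻¹ * (m * y * m⁻¹)) by group]
      refine mul_mem hyC (Subgroup.mem_sup_right (S.cent_fix
        (S.mem_CA.1 (mul_mem (inv_mem hyA) (S.conj_mem_CA hm hyA))) ?_))
      rw [map_mul, map_mul, map_mul, map_inv, map_inv, S.k_σ_M hm, e, ← mul_assoc m, mul_assoc (m * y), ← hzc m⁻¹,
        ← mul_assoc (m * y), ← mul_assoc, hzc]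
      group) fun z hz => by
      show m * z * m⁻¹ ∈ C
      rw [Subgroup.mem_center_iff.1 hz, mul_inv_cancel_right]
      exact Subgroup.mem_sup_right hz)
    (fun c hc => S.mem_CA.1 (hC hyA (fun z hz => S.mem_CA.2 fun x => Subgroup.mem_center_iff.1 hz _) c hc))
    ⟨y, hyC, hnc⟩
    (by
      rw [show g⁻¹ * S.σ g = g1⁻¹ * (S.g0⁻¹ * S.σ S.g0) * S.σ g1 by rw [hg, map_mul]; group]
      exact mul_mem (mul_mem (inv_mem hg1) S.g0_σ) (emb_mem_Pl S.s hg1))
    (fun c => by
      rw [show g⁻¹ * S.ψ (h c) * g = g1⁻¹ * (S.g0⁻¹ * S.ψ (h c) * S.g0) * g1 by rw [hg]; group]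
      exact mul_mem (mul_mem (inv_mem hg1) (S.mem_P.1 (S.ψ_h_mem_P c))) hg1)
    (fun s => by
      rw [show g⁻¹ * S.ψ (u s) * g = g1⁻¹ * (S.g0⁻¹ * S.ψ (u s) * S.g0) * g1⁻¹⁻¹ by rw [hg]; group]
      exact Ul_conj (inv_mem hg1) (S.mem_Ru.1 (S.U_le_Ru ⟨s, rfl⟩)))
  have h6 : ∀ r < 126, (Psi C g r ↔ rtv r t = 1) := fun r hr => ⟨fun h6 => h6 t (e2 ▸ hyC), fun h6 s hs => by
    have h7 := hC (T := Subgroup.centralizer {g * xs k r 1 * g⁻¹}) (by
      rintro _ rfl
      have h7 := Five.Phi_xs t hr 1
      rw [h6, Units.val_one, one_mul] at h7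
      rw [e2]
      nth_rewrite 1 [← h7]
      group) (fun z hz x _ => Subgroup.mem_center_iff.1 hz x) _ hs _ rfl
    have h8 := Five.Phi_xs s hr 1
    rw [mul_one, show Phi k s * xs k r 1 * (Phi k s)⁻¹ =
      g⁻¹ * (g * Phi k s * g⁻¹ * (g * xs k r 1 * g⁻¹)) * g * (Phi k s)⁻¹ by group, ← h7,
      show g⁻¹ * (g * xs k r 1 * g⁻¹ * (g * Phi k s * g⁻¹)) * g * (Phi k s)⁻¹ = xs k r 1 by group] at h8
    exact Units.ext (xs_inj hr h8).symm⟩
  obtain ⟨n, hn, hodd, h7⟩ := exists_signs h2 (t := t) (by
    rw [show Phi k t * Phi k t = g⁻¹ * (y * y) * g by rw [e2]; group, Subgroup.mem_center_iff.1 hy2, inv_mul_cancel_right]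
    exact h3)
  have h8 := count S.β_dom hn hodd (fun r hr hr' => (h6 r hr).trans (h7 r hr hr')) hd h4
  generalize ((Finset.range 126).filter fun r => Psi C g r ∧ bf S.β (rv r) = d).card = m at h5 h8
  obtain ⟨c, hc, h9⟩ := S.bound
  have h10 : c ≤ 9 ∧ 0 < c := by
    revert c
    have key : ∀ c ∈ [1, 3, 4, 5, 6, 7, 9], c ≤ 9 ∧ 0 < c := by decide
    exact fun c hc _ => key c hc
  rw [h5] at h9
  have h11 := Nat.le_of_dvd h10.2 (Nat.dvd_of_mul_dvd_mul_left S.hb h9)
  rcases h8 with h8 | h8 | h8
  · have := S.ha
    rw [h5, h8, mul_zero] at this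
    omega
  · exact S.ne7 (by rw [h5, h8, mul_comm])
  · omega

end Sit

end Cfsg.Agent.E7P
end

-- part: E7P/Rsl/Alg
section
prune_inst 0x400203c040180000000180010c2001e62a6000092004b880041a0074406c16c632043a661b860071821102c74283c00481110006942a000000a080600411901a088824000a308e10ca404118080b1615000009040000000000000000000000000000000000
set_option linter.all false
open scoped Cfsg.Agent.FastGrp

/-!
# S5932: the algebraic overgroup in standard position (helper61)

* `Sit.Alg.X` : the factors, conjugated by `g⁻¹`; `Sit.Alg.ss` : the Lie algebra of the overgroup, `ss_stb`;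
* `Sit.Alg.fam` : the family.
-/

set_option autoImplicit false
set_option maxRecDepth 100000
set_option maxHeartbeats 400000

namespace Cfsg.Agent.E7P

open Cfsg Cfsg.Lie Matrix Module Polynomial
open Cfsg.Agent.H943.E7V.Block (D1 rho)
open Cfsg.Agent.R2.T1 Cfsg.Agent.E7P.Kf Cfsg.Agent.E7P.Rsl
open Cfsg.Agent.R2.PX (del)
open Cfsg.Agent.H943.SL2Rel (u w h)

universe u v

namespace Sit

variable {p a b : ℕ} {F : Type u} {K : Type v} {k : Type u} [Field F] [Fintype F] [Field K] [Fintype K] [Field k]
  {S : Sit p a b F K k}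

variable (S) in
/-- the Frobenius map as an automorphism -/
noncomputable def rsl_s : k ≃+* k := RingEquiv.ofBijective S.s ⟨S.s.injective, fun t => by
  have := S.closed
  obtain ⟨z, hz⟩ := IsAlgClosed.exists_pow_nat_eq t (Nat.card_pos (α := F))
  exact ⟨z, (S.frob z).trans hz⟩⟩

variable (S) in
theorem rsl_s_coe : (S.rsl_s : k →+* k) = S.s := rfl

namespace Alg

variable (A : S.Alg) (hp : p ≠ 2)

/-- the polynomial matrix of the root group -/
noncomputable def PP (i : Fin A.n) : Matrix H943.E7V.Block.D1 H943.E7V.Block.D1 k[X] :=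
  Matrix.of fun x y => ∑ m ∈ Finset.range (A.N + 2), monomial m (A.D i m x y)

theorem PP_ev (i : Fin A.n) (t : k) : rho k (A.Ξ i (u t)) = (A.PP i).map (eval t) := by
  rw [A.poly]
  ext x y
  simp only [Matrix.sum_apply, Matrix.smul_apply, smul_eq_mul, map_apply, PP, of_apply, eval_finsetSum, eval_monomial,
    mul_comm]

theorem PP_one (i : Fin A.n) : co 1 (A.PP i) = del k (A.e i) := by
  rw [← A.D1]
  ext x y
  simp only [co, map_apply, PP, of_apply, finsetSum_coeff, coeff_monomial]
  rw [Finset.sum_ite_eq', if_pos (Finset.mem_range.2 (by omega))]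

/-- the factors in standard position -/
noncomputable def X (i : Fin A.n) : Std k where
  Ξ := (MulAut.conj A.g⁻¹).toMonoidHom.comp (A.Ξ i)
  l := A.l i
  tor z := by
    show A.g⁻¹ * A.Ξ i (h z) * A.g⁻¹⁻¹ = _
    rw [A.tor]
    group
  e := adM k A.g⁻¹ *ᵥ A.e i
  P := (rho k A.g⁻¹).map C * A.PP i * (rho k A.g⁻¹⁻¹).map C
  ev t := by
    show rho k (A.g⁻¹ * A.Ξ i (u t) * A.g⁻¹⁻¹) = _
    rw [map_mul, map_mul, ev_mul, ev_mul, ev_C, ev_C, A.PP_ev]
  one := by rw [co_mul_C, co_C_mul, A.PP_one, Br.del_adM (S.nt_two hp)]
  ne e := A.ne i (by rw [← mulVec_inv' (adM k) A.g (A.e i), e, mulVec_zero])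
  two := S.nt_two hp

theorem X_Ξ (i : Fin A.n) (x : SpecialLinearGroup (Fin 2) k) : (A.X hp i).Ξ x = A.g⁻¹ * A.Ξ i x * A.g := by
  show A.g⁻¹ * A.Ξ i x * A.g⁻¹⁻¹ = _
  rw [inv_inv]

theorem X_l (i : Fin A.n) : (A.X hp i).l = A.l i := rfl

theorem X_comm (i j : Fin A.n) (hij : i ≠ j) (x y : SpecialLinearGroup (Fin 2) k) :
    (A.X hp i).Ξ x * (A.X hp j).Ξ y = (A.X hp j).Ξ y * (A.X hp i).Ξ x := by
  show MulAut.conj _ _ * MulAut.conj _ _ = MulAut.conj _ _ * MulAut.conj _ _
  rw [← map_mul, ← map_mul, A.comm i j hij]

/-- the Frobenius map permutes the factors -/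
theorem tw_σ (i : Fin A.n) (x : SpecialLinearGroup (Fin 2) k) :
    A.g⁻¹ * S.σ A.g * ((A.X hp i).frob S.rsl_s).Ξ x = (A.X hp (A.π i)).Ξ x * (A.g⁻¹ * S.σ A.g) := by
  obtain ⟨y, rfl⟩ : ∃ y, x = SpecialLinearGroup.map (S.rsl_s : k →+* k) y :=
    ⟨SpecialLinearGroup.map (S.rsl_s.symm : k →+* k) x, Subtype.ext (by
      ext c d
      exact (S.rsl_s.apply_symm_apply _).symm)⟩
  rw [Std.frob_Ξ, rsl_s_coe, X_Ξ, X_Ξ, ← A.frob, map_mul, map_mul, map_inv]
  show _ * ((S.σ A.g)⁻¹ * S.σ _ * S.σ A.g) = _
  group

/-- the maximal subgroup permutes the factors -/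
theorem tw_M {m : Gh k} (hm : m ∈ S.M) : ∃ ρ : Equiv.Perm (Fin A.n), ∀ i, ∃ γ y,
    A.g⁻¹ * m * A.g = (A.X hp (ρ i)).Ξ γ * y ∧ ∀ x, y * (A.X hp i).Ξ x = (A.X hp (ρ i)).Ξ x * y := by
  obtain ⟨ρ, hρ⟩ := A.norm m hm
  refine ⟨ρ, fun i => ?_⟩
  obtain ⟨γ, hγ⟩ := hρ i
  refine ⟨γ, ((A.X hp (ρ i)).Ξ γ)⁻¹ * (A.g⁻¹ * m * A.g), (mul_inv_cancel_left _ _).symm, fun x => ?_⟩
  have h1 := hγ x
  rw [map_mul, map_mul, map_inv, mul_inv_eq_iff_eq_mul] at h1
  rw [X_Ξ, X_Ξ, X_Ξ]
  calc _ = A.g⁻¹ * (A.Ξ (ρ i) γ)⁻¹ * (m * A.Ξ i x) * A.g := by group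
    _ = _ := by rw [h1]; group

theorem res_mem {T : Subgroup (Gh k)} (hT : ∀ i x, (A.X hp i).Ξ x ∈ T) (x : SpecialLinearGroup (Fin 2) K) :
    A.g⁻¹ * S.ψ x * A.g ∈ T := by
  have h1 : S.ψ x ∈ T.comap (MulAut.conj A.g⁻¹).toMonoidHom := by
    rw [A.res]
    exact list_prod_mem fun y hy => by
      obtain ⟨i, rfl⟩ := List.mem_ofFn.1 hy
      exact hT i _
  have h2 : A.g⁻¹ * S.ψ x * A.g⁻¹⁻¹ ∈ T := h1
  rwa [inv_inv] at h2

/-- the Lie algebra of the overgroup -/
noncomputable def ss : Submodule k (chevE7.Idx → k) := (⨆ i, (A.X hp i).sp).comap (toLin' (adM k A.g⁻¹))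

theorem mem_ss {z : chevE7.Idx → k} : z ∈ A.ss hp ↔ adM k A.g⁻¹ *ᵥ z ∈ ⨆ i, (A.X hp i).sp := Iff.rfl

theorem ss_ne : A.ss hp ≠ ⊥ := (Submodule.ne_bot_iff _).2 ⟨A.e ⟨0, A.npos⟩,
  Submodule.mem_iSup_of_mem ⟨0, A.npos⟩ (A.X hp _).e_mem_sp, A.ne _⟩

theorem ss_stb : S.Stb (adM k) (A.ss hp) := by
  have := S.closed
  refine ⟨fun m hm z hz => ?_, fun z hz => ?_⟩
  · obtain ⟨ρ, hρ⟩ := A.tw_M hp hm
    have h1 : ⨆ i, (A.X hp i).sp ≤ (⨆ i, (A.X hp i).sp).comap (toLin' (adM k (A.g⁻¹ * m * A.g))) :=
      iSup_le fun i y hy => by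
        obtain ⟨γ, c, e, hc⟩ := hρ i
        show adM k (A.g⁻¹ * m * A.g) *ᵥ y ∈ ⨆ i, (A.X hp i).sp
        rw [e, mulVec_mul]
        exact Submodule.mem_iSup_of_mem (ρ i) (Std.sp_stab _ _ _ (Std.tw_sp hc y hy))
    have h2 : adM k (A.g⁻¹ * m * A.g) *ᵥ adM k A.g⁻¹ *ᵥ z ∈ ⨆ i, (A.X hp i).sp := h1 ((A.mem_ss hp).1 hz)
    rwa [mulVec_mul, mulVec_inv', mulVec_mul] at h2
  · have h1 : ∀ y ∈ ⨆ i, (A.X hp i).sp, adM k (A.g⁻¹ * S.σ A.g) *ᵥ S.sv y ∈ ⨆ i, (A.X hp i).sp := fun y hy => by
      have hadd : ∀ x y : chevE7.Idx → k, S.sv (x + y) = S.sv x + S.sv y := fun x y => funext fun _ => map_add _ _ _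
      refine Submodule.iSup_induction _ (motive := fun y => adM k (A.g⁻¹ * S.σ A.g) *ᵥ S.sv y ∈ ⨆ i, (A.X hp i).sp) hy
        (fun i y hy => Submodule.mem_iSup_of_mem (A.π i) (Std.tw_sp (A.tw_σ hp i) _ ?_)) ?_ fun x y hx hy => ?_
      · induction hy using Submodule.span_induction with
        | mem z hz =>
          rcases hz with rfl | rfl | rfl
          · exact Std.e_mem_sp _
          · exact ((A.X hp i).frob_hh S.rsl_s ▸ Std.hh_mem_sp ((A.X hp i).frob S.rsl_s) :)
          · exact ((A.X hp i).frob_f S.rsl_s ▸ Std.f_mem_sp ((A.X hp i).frob S.rsl_s) :)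
        | zero => rw [S.nt_sv_zero]; exact zero_mem _
        | add x y _ _ hx hy => rw [hadd]; exact add_mem hx hy
        | smul t x _ hx =>
          rw [show S.sv (t • x) = S.s t • S.sv x from funext fun _ => map_mul _ _ _]
          exact Submodule.smul_mem _ _ hx
      · rw [S.nt_sv_zero, mulVec_zero]; exact zero_mem _
      · rw [hadd, mulVec_add]; exact add_mem hx hy
    have h2 := h1 _ ((A.mem_ss hp).1 hz)
    rwa [S.sv_mulVec wrep_L, map_inv S.σ, mulVec_mul, mulVec_inv'] at h2

include hp in
theorem conj_l (i j : Fin A.n) : ∃ v, lE (A.l j) = wL v (lE (A.l i)) := by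
  have := S.closed
  obtain ⟨m, rfl⟩ := A.trans i j
  induction m with
  | zero => exact ⟨[], rfl⟩
  | succ m ih =>
    obtain ⟨v, hv⟩ := ih
    obtain ⟨v', hv'⟩ := Std.tw_l (A.tw_σ hp ((A.π ^ m) i))
    exact ⟨v' ++ v, by rw [pow_succ', Equiv.Perm.mul_apply, wL_append, ← hv]; exact hv'⟩

/-- **the family** -/
noncomputable def fam : Fam k p (Fin A.n) where
  X := A.X hp
  prime := S.prime
  char := S.chark
  comm := A.X_comm hp
  conj := A.conj_l hp
  pt c h1 h2 hc := by
    have := S.closed
    refine conj_eq_one_iff.1 (S.ptL hp (S.ssc hp) (A.ss_stb hp) (A.ss_ne hp) (c := A.g * c * A.g⁻¹) (fun y hy => ?_)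
      (by rw [conj_pow, hc, mul_one, mul_inv_cancel]))
    have h3 : ⨆ i, (A.X hp i).sp ≤ LinearMap.eqLocus (toLin' (adM k c)) LinearMap.id :=
      iSup_le fun i => Std.fix_sp (h1 i) (h2 i)
    have h4 : adM k c *ᵥ adM k A.g⁻¹ *ᵥ y = adM k A.g⁻¹ *ᵥ y := h3 hy
    rw [mulVec_mul, mulVec_mul, h4, mulVec_inv']
  irr g β hβ := S.irr hp (S.ssc hp) (g := A.g * g) fun x => by
    have h1 : g⁻¹ * (A.g⁻¹ * S.ψ x * A.g) * g⁻¹⁻¹ ∈ Pl k β :=
      A.res_mem hp (T := (Pl k β).comap (MulAut.conj g⁻¹).toMonoidHom) (fun i x => by
        show g⁻¹ * _ * g⁻¹⁻¹ ∈ Pl k β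
        rw [inv_inv]
        exact hβ i x) x
    rwa [show (A.g * g)⁻¹ * S.ψ x * (A.g * g) = g⁻¹ * (A.g⁻¹ * S.ψ x * A.g) * g⁻¹⁻¹ by group]
  fixV y hy := by
    have h1 := S.nofixV hp (S.ssc hp) (rho k A.g *ᵥ y) fun x => by
      have h2 := A.res_mem hp (T := Fx (rho k) (Submodule.span k {y})) (fun i x z hz => by
        obtain ⟨t, rfl⟩ := Submodule.mem_span_singleton.1 hz
        rw [mulVec_smul, hy]) x y (Submodule.mem_span_singleton_self y)
      rw [mulVec_mul, mulVec_mul] at h2
      conv_rhs => rw [← h2, mulVec_inv']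
    rw [← mulVec_inv (rho k) A.g y, h1, mulVec_zero]
  fixL y hy := by
    have h1 := S.nofix hp (S.ssc hp) (adM k A.g *ᵥ y) fun x => by
      have h2 := A.res_mem hp (T := Fx (adM k) (Submodule.span k {y})) (fun i x z hz => by
        obtain ⟨t, rfl⟩ := Submodule.mem_span_singleton.1 hz
        rw [mulVec_smul, hy]) x y (Submodule.mem_span_singleton_self y)
      rw [mulVec_mul, mulVec_mul] at h2
      conv_rhs => rw [← h2, mulVec_inv']
    rw [← mulVec_inv (adM k) A.g y, h1, mulVec_zero]

end Alg

end Sit

end Cfsg.Agent.E7P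

private theorem dce_dc8d2fee25d5 : _root_.True := by
  try have : _root_.True := by simp only [_root_.Cfsg.Agent.E7P.Sit.Alg.PP.eq_1]
  exact _root_.True.intro
end
end
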